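import Groth.Agent.GIT.K384.Loc
import Groth.Agent.CurvSt.K901.SchLoc

/-!
# The open subscheme over which a smooth proper scheme with a section is an abelian scheme
-/

set_option autoImplicit false
universe u

open CategoryTheory CategoryTheory.Limits MonoidalCategory CartesianMonoidalCategory MonObj
open AlgebraicGeometry Opposite TopologicalSpace
open K384.Setup K384.Princ K384.Asm K384.Fam K384.Cpl K384.Loc
open Groth.Agent.Sga1.SectionSpread

namespace K384.Glob

theorem nonempty_grp_comp {S S' S'' : Scheme.{u}} (f : S'' ⟶ S') (g : S' ⟶ S) (d : S'' ⟶ S)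
    (h : f ≫ g = d) (X : Over S) (H : Nonempty (GrpObj (Red.bc f (Red.bc g X)))) :
    Nonempty (GrpObj (Red.bc d X)) := nonempty_grp_of_iso (ActBC.bcCompIso f g X h) H

/-- The open subscheme, for geometrically integral fibres. -/
theorem exists_open {S : Scheme.{u}} [IsLocallyNoetherian S] (X : Over S) [Smooth X.hom]
    [IsProper X.hom] [GeometricallyIntegral X.hom] (e : 𝟙_ (Over S) ⟶ X) :
    ∃ U : S.Opens, ∀ (T : Scheme.{u}) (f : T ⟶ S),
      Nonempty (GrpObj (Red.bc f X)) ↔ Set.range f ⊆ (U : Set S) := by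
  refine ⟨⨆ V : {V : S.Opens // Nonempty (GrpObj (Red.bc V.ι X))}, V.1, fun T f => ⟨?_, ?_⟩⟩
  · rintro H _ ⟨t, rfl⟩
    obtain ⟨W, hW, hx, -⟩ := K384.Tau.exists_affine (show f t ∈ (⊤ : S.Opens) from trivial)
    have : IsNoetherianRing Γ(S, W) := IsLocallyNoetherian.component_noetherian ⟨W, hW⟩
    let j : Spec (CommRingCat.of Γ(S, W)) ⟶ S := hW.fromSpec
    have hj : IsOpenImmersion j := inferInstanceAs (IsOpenImmersion hW.fromSpec)
    let c : Spec (CommRingCat.of (T.residueField t)) ⟶ S := T.fromSpecResidueField t ≫ f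
    have hc : Set.range c ⊆ Set.range j := by
      rintro _ ⟨x, rfl⟩
      have h1 : T.fromSpecResidueField t x = t := Scheme.fromSpecResidueField_apply t x
      have h2 : c x = f t := by
        rw [show c x = f (T.fromSpecResidueField t x) from Scheme.Hom.comp_apply _ _ _, h1]
      rw [h2]
      have h3 : Set.range hW.fromSpec = W := hW.range_fromSpec
      exact (Set.ext_iff.1 h3 (f t)).2 hx
    let k : Spec (CommRingCat.of (T.residueField t)) ⟶ Spec (CommRingCat.of Γ(S, W)) :=
      IsOpenImmersion.lift j c hc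
    have hk : k ≫ j = c := IsOpenImmersion.lift_fac _ _ _
    obtain ⟨φ, hφ⟩ := Spec.map_surjective k
    have H1 : Nonempty (GrpObj (Red.bc c X)) := nonempty_grp_of_fac _ _ _ rfl X H
    have H2 : Nonempty (GrpObj (Red.bc (Spec.map (CommRingCat.ofHom φ.hom)) (Red.bc j X))) := by
      refine nonempty_grp_of_fac' _ _ c ?_ X H1
      rw [← hk, ← hφ]
      rfl
    obtain ⟨B, _, _, hB1, ⟨χ, hχ⟩, hB2⟩ := local_main (Red.bc j X) (secB e j)
      (T.residueField t) φ.hom H2
    have H3 : Nonempty (GrpObj (Red.bc (str Γ(S, W) B ≫ j) X)) := nonempty_grp_comp _ _ _ rfl X hB2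
    let V : S.Opens := (str Γ(S, W) B ≫ j).opensRange
    have H4 : Nonempty (GrpObj (Red.bc V.ι X)) := by
      refine nonempty_grp_of_fac (IsOpenImmersion.lift (str Γ(S, W) B ≫ j) V.ι ?_)
        (str Γ(S, W) B ≫ j) V.ι (IsOpenImmersion.lift_fac _ _ _) X H3
      rw [Scheme.Opens.range_ι]
      exact subset_rfl
    have H5 : f t ∈ V := by
      have h1 : Spec.map (CommRingCat.ofHom χ) ≫ str Γ(S, W) B ≫ j = c := by
        rw [← hk, ← hφ, ← Category.assoc, ← Spec.map_comp, ← CommRingCat.ofHom_comp, hχ]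
        rfl
      let x : Spec (CommRingCat.of (T.residueField t)) := IsLocalRing.closedPoint (T.residueField t)
      refine ⟨Spec.map (CommRingCat.ofHom χ) x, ?_⟩
      refine (Scheme.Hom.comp_apply _ _ _).symm.trans ?_
      rw [h1]
      refine (Scheme.Hom.comp_apply _ _ _).trans ?_
      exact congrArg f (Scheme.fromSpecResidueField_apply t x)
    exact Opens.mem_iSup.2 ⟨⟨V, H4⟩, H5⟩
  · intro h
    refine nonempty_of_glue f (fun V : {V : S.Opens // Nonempty (GrpObj (Red.bc V.ι X))} =>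
      (f ⁻¹ᵁ V.1).ι) ?_ e ?_
    · intro t
      obtain ⟨V, hV⟩ := Opens.mem_iSup.1 (h ⟨t, rfl⟩)
      exact ⟨V, by rw [Scheme.Opens.range_ι]; exact hV⟩
    · intro V
      exact nonempty_grp_of_fac (f ∣_ V.1) V.1.ι _ (morphismRestrict_ι f V.1) X V.2

/-- Connectedness of the geometric fibres. -/
theorem connectedSpace_iff {S T : Scheme.{u}} (X : Over S) (f : T ⟶ S) (t : T) :
    ConnectedSpace (Red.geomFibre t (Red.bc f X)).left ↔ MoreMor.nGeomConnComp X.hom (f t) = 1 := by
  have h1 : IsPullback (pullback.fst (pullback.snd X.hom f) (Red.geomPt t) ≫ pullback.fst X.hom f)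
      (pullback.snd (pullback.snd X.hom f) (Red.geomPt t)) X.hom (Red.geomPt t ≫ f) :=
    (IsPullback.of_hasPullback _ _).paste_horiz (IsPullback.of_hasPullback X.hom f)
  have h2 := K901.SchLoc.connectedSpace_iff h1
  let x : Spec (CommRingCat.of (AlgebraicClosure (T.residueField t))) := IsLocalRing.closedPoint _
  have h3 : (Red.geomPt t ≫ f) x = f t := by
    refine (Scheme.Hom.comp_apply _ _ _).trans (congrArg f ?_)
    refine (Scheme.Hom.comp_apply _ _ _).trans ?_
    exact Scheme.fromSpecResidueField_apply t _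
  rw [← h3]
  exact h2

theorem main {S : Scheme.{u}} [IsLocallyNoetherian S] (X : Over S) [Smooth X.hom]
    [IsProper X.hom] (e : 𝟙_ (Over S) ⟶ X) :
    ∃ U : S.Opens, ∀ (T : Scheme.{u}) (f : T ⟶ S),
      (Nonempty (GrpObj (Red.bc f X)) ∧ ∀ t : T, ConnectedSpace (Red.geomFibre t (Red.bc f X)).left) ↔
        Set.range f ⊆ (U : Set S) := by
  have hred : GeometricallyReduced X.hom := K448.SmoothConn.geometricallyReduced X.hom
  let N : S.Opens := ⟨{s : S | MoreMor.nGeomConnComp X.hom s = 1}, by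
    have := K901.SchLoc.isOpen_conn X.hom (isOpen_univ (X := S)) (fun s _ => inferInstance)
    rwa [Set.univ_inter] at this⟩
  have hN : ∀ s : N, ConnectedSpace (Red.geomFibre s (Red.bc N.ι X)).left := fun s =>
    (connectedSpace_iff X N.ι s).2 (by
      have := s.2
      exact this)
  have h1 : GeometricallyIrreducible (Red.bc N.ι X).hom := K20.GeomIrr.geomIrr _ hN
  have h2 : GeometricallyReduced (Red.bc N.ι X).hom := K448.SmoothConn.geometricallyReduced _
  have h3 : GeometricallyIntegral (Red.bc N.ι X).hom :=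
    GeometricallyIntegral.of_geometricallyReduced_of_geometricallyIrreducible _
  have : IsLocallyNoetherian (N : Scheme.{u}) := inferInstance
  obtain ⟨U, hU⟩ := exists_open (Red.bc N.ι X) (secB e N.ι)
  refine ⟨N.ι ''ᵁ U, fun T f => ⟨?_, ?_⟩⟩
  · rintro ⟨H1, H2⟩
    have h4 : Set.range f ⊆ Set.range N.ι := by
      rintro _ ⟨t, rfl⟩
      rw [Scheme.Opens.range_ι]
      exact (connectedSpace_iff X f t).1 (H2 t)
    have h5 := IsOpenImmersion.lift_fac N.ι f h4
    have h6 := (hU T (IsOpenImmersion.lift N.ι f h4)).1 (nonempty_grp_of_fac' _ _ _ h5 X H1)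
    rintro _ ⟨t, rfl⟩
    refine ⟨IsOpenImmersion.lift N.ι f h4 t, h6 ⟨t, rfl⟩, ?_⟩
    exact (Scheme.Hom.comp_apply _ _ _).symm.trans (congrArg (fun m => m t) h5)
  · intro H
    have h4 : Set.range f ⊆ Set.range N.ι := H.trans (by
      rintro _ ⟨x, -, rfl⟩
      exact ⟨x, rfl⟩)
    have h5 := IsOpenImmersion.lift_fac N.ι f h4
    refine ⟨nonempty_grp_comp _ _ _ h5 X ((hU T (IsOpenImmersion.lift N.ι f h4)).2 ?_), fun t => ?_⟩
    · rintro _ ⟨t, rfl⟩
      obtain ⟨x, hx, hx2⟩ := H ⟨t, rfl⟩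
      have h6 : N.ι (IsOpenImmersion.lift N.ι f h4 t) = N.ι x := by
        rw [← Scheme.Hom.comp_apply, h5]
        exact hx2.symm
      have h7 := N.ι.isOpenEmbedding.injective h6
      rw [h7]
      exact hx
    · refine (connectedSpace_iff X f t).2 ?_
      have h6 := h4 ⟨t, rfl⟩
      rw [Scheme.Opens.range_ι] at h6
      exact h6

end K384.Glob
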