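import Groth.Agent.GIT.K384.Rel

/-!
# Adding functions to a morphism
-/

set_option autoImplicit false
universe u

open CategoryTheory CategoryTheory.Limits AlgebraicGeometry Opposite TopologicalSpace
open Groth.Agent.Sga67.Sec (resO resO_resO resO_self eqO_of_locally)
open K696.Base K696.Perturb K384.Tau K384.Dif K384.Rel

namespace K384.AddF

variable {S Sb X Xb : Scheme.{u}} {iS : Sb ⟶ S} {iX : Xb ⟶ X} {p : X ⟶ S} {pb : Xb ⟶ Sb}
  {ι : Type} [Fintype ι] {Z W : Scheme.{u}} {i : Z ⟶ W} {t : Γ(W, ⊤)}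
  (H : TRed i t) (F : Frame pb ι) (q : W ⟶ X) (qb : Z ⟶ Xb) (hq : i ≫ q = qb ≫ iX)
  (f : ι → Γ(Z, ⊤))

/-- The perturbation. -/
noncomputable def eps (V : X.Opens) : Γ(X, V) →+ Γ(W, q ⁻¹ᵁ V) :=
  (H.tau (q ⁻¹ᵁ V)).comp (comb F qb iX (pre_le hq le_rfl) (fun j => resO Z le_top (f j)))

theorem eps_apply (V : X.Opens) (a : Γ(X, V)) : eps H F q qb hq f V a =
    H.tau (q ⁻¹ᵁ V) (comb F qb iX (pre_le hq le_rfl) (fun j => resO Z le_top (f j)) a) := rfl

theorem isPert : IsPert q (eps H F q qb hq f) where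
  nat V V' hV a := by
    rw [eps_apply, eps_apply, H.resO_tau (q.preimage_mono hV),
      comb_resO F qb (pre_le hq le_rfl) (pre_le hq le_rfl) hV (i.preimage_mono (q.preimage_mono hV))]
    congr 1
    rw [comb_apply, comb_apply]
    refine Finset.sum_congr rfl fun j _ => ?_
    rw [resO_resO]
  one V := by rw [eps_apply, comb_one, map_zero]
  mul V a b := by
    have e1 : ∀ a : Γ(X, V), ev qb (pre_le hq (le_rfl : q ⁻¹ᵁ V ≤ q ⁻¹ᵁ V)) (iX.app V a) =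
        i.app (q ⁻¹ᵁ V) (q.app V a) := by
      intro a
      rw [← ev_eq_app q a le_rfl]
      exact (i_ev hq le_rfl a).symm
    rw [eps_apply, comb_mul, map_add, e1, e1, H.tau_mul, H.tau_mul]
    rfl
  sq V a b := by rw [eps_apply, eps_apply, H.tau_mul_tau]

/-- The morphism `q + f`. -/
noncomputable def addF : W ⟶ X := pHom (isPert H F q qb hq f)

theorem addF_apply (x : W) : addF H F q qb hq f x = q x := rfl

theorem ev_addF {V : X.Opens} {O : W.Opens} (h : O ≤ addF H F q qb hq f ⁻¹ᵁ V) (h' : O ≤ q ⁻¹ᵁ V)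
    (a : Γ(X, V)) : ev (addF H F q qb hq f) h a = ev q h' a +
      H.tau O (comb F qb iX (pre_le hq h') (fun j => resO Z le_top (f j)) a) := by
  refine (ev_pHom (isPert H F q qb hq f) h h' a).trans ?_
  congr 1
  rw [eps_apply, H.resO_tau h',
    comb_resO F qb (pre_le hq le_rfl) (pre_le hq h') le_rfl (i.preimage_mono h')]
  congr 1
  rw [comb_apply, comb_apply]
  refine Finset.sum_congr rfl fun j _ => ?_
  rw [resO_resO, resO_self]

/-- `q + f` agrees with `q` along morphisms killing the image of `tau`. -/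
theorem comp_addF {Z₀ : Scheme.{u}} (j : Z₀ ⟶ W)
    (hj : ∀ (U : W.Opens) (b : Γ(Z, i ⁻¹ᵁ U)), j.app U (H.tau U b) = 0) :
    j ≫ addF H F q qb hq f = j ≫ q := by
  refine hom_ext_ev (fun x => rfl) fun V O h1 h2 a => ?_
  have e : addF H F q qb hq f ⁻¹ᵁ V = q ⁻¹ᵁ V := rfl
  rw [← ev_comp j (addF H F q qb hq f) (le_refl (q ⁻¹ᵁ V)) (show O ≤ j ⁻¹ᵁ (q ⁻¹ᵁ V) from h1) h1 a,
    ← ev_comp j q (le_refl (q ⁻¹ᵁ V)) (show O ≤ j ⁻¹ᵁ (q ⁻¹ᵁ V) from h1) h2 a,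
    ev_addF H F q qb hq f (le_refl (q ⁻¹ᵁ V)) le_rfl, map_add, ev_eq j _ (H.tau _ _), hj, map_zero,
    add_zero]

theorem i_addF : i ≫ addF H F q qb hq f = qb ≫ iX := by
  rw [comp_addF H F q qb hq f i fun U b => H.i_tau b, hq]

theorem addF_comp (T : IsTgt iS iX p pb) : addF H F q qb hq f ≫ p = q ≫ p := by
  have := T.aff
  refine ext_of_isAffine ?_
  ext c
  have e1 : (⊤ : W.Opens) ≤ (addF H F q qb hq f ≫ p) ⁻¹ᵁ ⊤ := le_top
  have e2 : (⊤ : W.Opens) ≤ (q ≫ p) ⁻¹ᵁ ⊤ := le_top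
  have e3 : ev (addF H F q qb hq f ≫ p) e1 c = ev (q ≫ p) e2 c := by
    rw [← ev_comp (addF H F q qb hq f) p (show (⊤ : X.Opens) ≤ p ⁻¹ᵁ ⊤ from le_top) (le_top) e1,
      ← ev_comp q p (show (⊤ : X.Opens) ≤ p ⁻¹ᵁ ⊤ from le_top) (le_top) e2,
      ev_addF H F q qb hq f (show (⊤ : W.Opens) ≤ _ from le_top) le_top, comb_const F qb T, map_zero,
      add_zero]
  rw [ev_eq, ev_eq] at e3
  have e4 : ∀ (g : W ⟶ S) (h : (⊤ : W.Opens) ≤ g ⁻¹ᵁ ⊤), resO W h (g.app ⊤ c) = g.appTop c :=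
    fun g h => resO_self (X := W) le_rfl _
  rw [e4, e4] at e3
  exact e3

theorem isDiff_addF : IsDiff H F (addF H F q qb hq f) q qb (i_addF H F q qb hq f) f := by
  intro V O h₁ h₂ a
  rw [ev_addF H F q qb hq f h₁ h₂, add_sub_cancel_left]

end K384.AddF
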