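import Groth.Agent.GIT.K384.Princ

/-!
# Abelian schemes over small extensions: the induction
-/

set_option autoImplicit false
universe u

open CategoryTheory CategoryTheory.Limits MonoidalCategory CartesianMonoidalCategory MonObj
open AlgebraicGeometry Opposite TopologicalSpace
open K384.Setup K384.Princ

namespace K384.Asm

theorem nonempty_grp_of_iso {C : Type*} [Category C] [CartesianMonoidalCategory C] {X Y : C} (f : X ≅ Y)
    (H : Nonempty (GrpObj X)) : Nonempty (GrpObj Y) := by
  obtain ⟨G⟩ := H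
  exact ⟨GrpObj.ofIso f⟩

theorem nonempty_grp_of_fac' {S S' S'' : Scheme.{u}} (f : S'' ⟶ S') (g : S' ⟶ S) (d : S'' ⟶ S)
    (h : f ≫ g = d) (X : Over S) (H : Nonempty (GrpObj (Red.bc d X))) :
    Nonempty (GrpObj (Red.bc f (Red.bc g X))) :=
  nonempty_grp_of_iso (ActBC.bcCompIso f g X h).symm H

/-- A group structure on the base change along an isomorphism. -/
theorem nonempty_grp_of_isIso {S S' : Scheme.{u}} (f : S' ⟶ S) [IsIso f] (X : Over S)
    (H : Nonempty (GrpObj (Red.bc f X))) : Nonempty (GrpObj X) := by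
  have h1 := nonempty_grp_of_fac (inv f) f (𝟙 S) (IsIso.inv_hom_id f) X H
  exact nonempty_grp_of_iso ((Over.pullbackId (X := S)).app X) h1

/-- Existence of a group structure with given unit, for abelian schemes. -/
theorem exists_grp_of_unital {S : Scheme.{u}} (X : Over S) [Smooth X.hom] [IsProper X.hom]
    [GeometricallyIntegral X.hom] (e : 𝟙_ (Over S) ⟶ X)
    (H : ∃ m : X ⊗ X ⟶ X, lift (𝟙 X) (toUnit X ≫ e) ≫ m = 𝟙 X ∧
      lift (toUnit X ≫ e) (𝟙 X) ≫ m = 𝟙 X) : ∃ g : GrpObj X, g.one = e := by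
  obtain ⟨m, h1, h2⟩ := H
  obtain ⟨g, hg, -⟩ := Groth.Agent.S7787.result X e m h1 h2
  exact ⟨g, hg⟩

/-- Moving the unit. -/
theorem exists_grp_of_grp {S : Scheme.{u}} (X : Over S) [Smooth X.hom] [IsProper X.hom]
    [GeometricallyIntegral X.hom] (e : 𝟙_ (Over S) ⟶ X) (H : Nonempty (GrpObj X)) :
    ∃ g : GrpObj X, g.one = e := by
  obtain ⟨G⟩ := H
  exact exists_grp_of_unital X e (exists_unital_of_grp X e)

variable {A : Type u} [CommRing A]

/-- The induction step. -/
theorem step [IsLocalRing A] (X : Over (Spec (CommRingCat.of A))) [Smooth X.hom] [IsProper X.hom]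
    [GeometricallyIntegral X.hom] (e : 𝟙_ (Over (Spec (CommRingCat.of A))) ⟶ X)
    (J : Ideal A) (t : A) (ht : t ∈ IsLocalRing.maximalIdeal A)
    (hJ : J ≤ IsLocalRing.maximalIdeal A) (hM : ∀ a ∈ IsLocalRing.maximalIdeal A, a * t ∈ J)
    (H : Nonempty (GrpObj (Red.bc (cl (J ⊔ Ideal.span {t})) X))) :
    Nonempty (GrpObj (Red.bc (cl J) X)) := by
  by_cases htJ : t ∈ J
  · have h1 : J ⊔ Ideal.span {t} = J := sup_eq_left.2 ((Ideal.span_singleton_le_iff_mem _).2 htJ)
    rw [h1] at H
    exact H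
  have hJ1 : J ≠ ⊤ := fun h => (IsLocalRing.maximalIdeal.isMaximal A).ne_top (top_le_iff.1 (h ▸ hJ))
  have : Nontrivial (A ⧸ J) := Ideal.Quotient.nontrivial_iff.2 hJ1
  have : IsLocalRing (A ⧸ J) := IsLocalRing.of_surjective' (Ideal.Quotient.mk J) Ideal.Quotient.mk_surjective
  have hmk : ∀ a : A, Ideal.Quotient.mk J a ∈ IsLocalRing.maximalIdeal (A ⧸ J) ↔
      a ∈ IsLocalRing.maximalIdeal A := by
    intro a
    have := IsLocalHom.of_surjective (Ideal.Quotient.mk J) Ideal.Quotient.mk_surjective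
    rw [IsLocalRing.mem_maximalIdeal, IsLocalRing.mem_maximalIdeal, mem_nonunits_iff, mem_nonunits_iff,
      isUnit_map_iff]
  let D : Dat (A ⧸ J) :=
    { M := IsLocalRing.maximalIdeal (A ⧸ J)
      t := Ideal.Quotient.mk J t
      mem := (hmk t).2 ht
      ann := by
        intro a
        obtain ⟨a, rfl⟩ := Ideal.Quotient.mk_surjective a
        rw [hmk, ← map_mul, Ideal.Quotient.eq_zero_iff_mem]
        constructor
        · intro ha
          rw [mul_comm]
          exact hM a ha
        · intro ha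
          by_contra h1
          rw [IsLocalRing.mem_maximalIdeal, mem_nonunits_iff, not_not] at h1
          obtain ⟨u, rfl⟩ := h1
          refine htJ ?_
          have := J.mul_mem_right ((u⁻¹ : Aˣ) : A) ha
          rwa [_root_.mul_assoc, Units.mul_inv, _root_.mul_one] at this }
  have hl : ∀ a ∈ J ⊔ Ideal.span {t}, ((Ideal.Quotient.mk D.I).comp (Ideal.Quotient.mk J)) a = 0 := by
    intro a ha
    obtain ⟨x, hx, y, hy, rfl⟩ := Submodule.mem_sup.1 ha
    rw [map_add, RingHom.comp_apply, RingHom.comp_apply, Ideal.Quotient.eq_zero_iff_mem.2 hx, map_zero,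
      zero_add, Ideal.Quotient.eq_zero_iff_mem]
    obtain ⟨z, rfl⟩ := Ideal.mem_span_singleton'.1 hy
    rw [map_mul]
    exact D.I.mul_mem_left _ (Ideal.mem_span_singleton_self _)
  have H1 : Nonempty (GrpObj (Red.bc (cl D.I ≫ cl J) X)) := by
    refine nonempty_grp_of_fac (Spec.map (CommRingCat.ofHom (Ideal.Quotient.lift _ _ hl))) _ _ ?_ X H
    rw [← Spec.map_comp, ← Spec.map_comp, ← CommRingCat.ofHom_comp, ← CommRingCat.ofHom_comp,
      Ideal.Quotient.lift_comp_mk]
  have H2 : Nonempty (GrpObj (Red.bc (cl D.I) (red J X))) := nonempty_grp_of_fac' _ _ _ rfl X H1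
  let e' : 𝟙_ (Over (Spec (CommRingCat.of (A ⧸ J)))) ⟶ red J X :=
    Functor.LaxMonoidal.ε (Over.pullback (cl J)) ≫ rmap J e
  obtain ⟨g, -⟩ := exists_grp_of_unital (red J X) e'
    (principal (D := D) (X := red J X) (IsLocalRing.maximalIdeal.isMaximal _) e' H2)
  exact ⟨g⟩

/-- Abelian schemes over a local ring modulo a finitely generated ideal killed by the maximal ideal. -/
theorem exists_grpObj [IsLocalRing A] (X : Over (Spec (CommRingCat.of A))) [Smooth X.hom] [IsProper X.hom]
    [GeometricallyIntegral X.hom] (e : 𝟙_ (Over (Spec (CommRingCat.of A))) ⟶ X)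
    (I : Ideal A) (hI : I ≠ ⊤) (hfg : I.FG) (hmI : IsLocalRing.maximalIdeal A * I = ⊥)
    (h0 : Nonempty (GrpObj (Red.bc (cl I) X))) :
    ∃ g : GrpObj X, g.one = e := by
  have hIM : I ≤ IsLocalRing.maximalIdeal A := IsLocalRing.le_maximalIdeal hI
  have key : ∀ s : Finset A, (∀ a ∈ s, a ∈ I) → Nonempty (GrpObj (Red.bc (cl (Ideal.span (s : Set A))) X)) →
      Nonempty (GrpObj (Red.bc (cl ⊥) X)) := by
    classical
    intro s
    induction s using Finset.induction_on with
    | empty =>
      intro _ H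
      rw [Finset.coe_empty, Ideal.span_empty] at H
      exact H
    | insert t s hts ih =>
      intro hs H
      refine ih (fun a ha => hs a (Finset.mem_insert_of_mem ha)) ?_
      have htI : t ∈ I := hs t (Finset.mem_insert_self _ _)
      have hsI : Ideal.span (s : Set A) ≤ I :=
        Ideal.span_le.2 (fun a ha => hs a (Finset.mem_insert_of_mem ha))
      refine step X e _ t (hIM htI) (hsI.trans hIM) ?_ ?_
      · intro a ha
        have : a * t ∈ IsLocalRing.maximalIdeal A * I := Ideal.mul_mem_mul ha htI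
        rw [hmI, Ideal.mem_bot] at this
        rw [this]
        exact zero_mem _
      · rw [Finset.coe_insert, Ideal.span_insert, sup_comm] at H
        exact H
  obtain ⟨s, hs⟩ := hfg
  have h1 : Nonempty (GrpObj (Red.bc (cl ⊥) X)) := by
    refine key s (fun a ha => hs ▸ Ideal.subset_span ha) ?_
    rw [show Ideal.span (s : Set A) = I from hs]
    exact h0
  have h2 : IsIso (cl (⊥ : Ideal A)) := by
    have : IsIso (CommRingCat.ofHom (Ideal.Quotient.mk (⊥ : Ideal A))) := by
      refine (ConcreteCategory.isIso_iff_bijective _).2 ⟨?_, Ideal.Quotient.mk_surjective⟩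
      exact (RingHom.injective_iff_ker_eq_bot _).2 Ideal.mk_ker
    infer_instance
  exact exists_grp_of_grp X e (nonempty_grp_of_isIso (cl ⊥) X h1)

end K384.Asm
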