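import Groth.Agent.GIT.K384.Setup
import Groth.Agent.Lefpen.H613.SqLift

/-!
# The difference calculus for morphisms to a smooth scheme with a frame of derivations

`A` a ring, `M` the annihilator of `t ∈ M`, `I = (t)`.  For `X` over `Spec A` with a frame `F` of derivations
of its reduction modulo `M`, `IsD F q q' f` expresses that the difference of `q, q' : T ⟶ X`, congruent
modulo `t`, has coefficients `f : ι → B D T`, `B D T` the functions on the reduction of `T` modulo `M`.
-/

set_option autoImplicit false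
universe u

open CategoryTheory CategoryTheory.Limits AlgebraicGeometry Opposite TopologicalSpace
open Groth.Agent.Sga67.Sec (resO resO_resO resO_self eqO_of_locally)
open K696.Base K384.Tau K384.Dif K384.Rel K384.Setup

namespace K384.Calc

variable {A : Type u} [CommRing A] (D : Dat A)

/-- Functions on the reduction. -/
noncomputable abbrev B (T : Over (Spec (CommRingCat.of A))) : CommRingCat.{u} :=
  Γ((red D.M T).left, ⊤)

/-- Functoriality of `B`. -/
noncomputable abbrev Bm {T T' : Over (Spec (CommRingCat.of A))} (r : T' ⟶ T) : B D T →+* B D T' :=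
  (rmap D.M r).left.appTop.hom

theorem Bm_id (T : Over (Spec (CommRingCat.of A))) (b : B D T) : Bm D (𝟙 T) b = b := by
  have : rmap D.M (𝟙 T) = 𝟙 _ := CategoryTheory.Functor.map_id _ _
  rw [Bm, this]
  rfl

theorem Bm_comp {T T' T'' : Over (Spec (CommRingCat.of A))} (r : T' ⟶ T) (s : T'' ⟶ T') (b : B D T) :
    Bm D (s ≫ r) b = Bm D s (Bm D r b) := by
  have : rmap D.M (s ≫ r) = rmap D.M s ≫ rmap D.M r := CategoryTheory.Functor.map_comp _ _ _
  rw [Bm, this]
  rfl

/-- Congruence modulo `t`. -/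
def Cg {T X : Over (Spec (CommRingCat.of A))} (q q' : T ⟶ X) : Prop := rmap D.I q = rmap D.I q'

variable {D}

theorem Cg.refl {T X : Over (Spec (CommRingCat.of A))} (q : T ⟶ X) : Cg D q q := rfl

theorem Cg.symm {T X : Over (Spec (CommRingCat.of A))} {q q' : T ⟶ X} (h : Cg D q q') : Cg D q' q :=
  Eq.symm h

theorem Cg.trans {T X : Over (Spec (CommRingCat.of A))} {q q' q'' : T ⟶ X} (h : Cg D q q')
    (h' : Cg D q' q'') : Cg D q q'' := Eq.trans h h'

theorem Cg.comp {T T' X : Over (Spec (CommRingCat.of A))} {q q' : T ⟶ X} (h : Cg D q q')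
    (r : T' ⟶ T) : Cg D (r ≫ q) (r ≫ q') := by
  have : rmap D.I q = rmap D.I q' := h
  change rmap D.I (r ≫ q) = rmap D.I (r ≫ q')
  rw [rmap, rmap, Functor.map_comp, Functor.map_comp]
  exact congrArg _ this

theorem exists_fac (T : Over (Spec (CommRingCat.of A))) :
    ∃ g : (red D.M T).left ⟶ (red D.I T).left, g ≫ inc D.I T = inc D.M T := by
  refine ⟨pullback.lift (inc D.M T) ((red D.M T).hom ≫
    Spec.map (CommRingCat.ofHom (Ideal.Quotient.factor D.I_le))) ?_, pullback.lift_fst _ _ _⟩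
  rw [Category.assoc, ← Spec.map_comp, ← CommRingCat.ofHom_comp, Ideal.Quotient.factor_comp_mk]
  exact inc_w D.M T

theorem Cg.inc_M {T X : Over (Spec (CommRingCat.of A))} {q q' : T ⟶ X} (h : Cg D q q') :
    inc D.M T ≫ q.left = inc D.M T ≫ q'.left := by
  obtain ⟨g, hg⟩ := exists_fac (D := D) T
  have h1 := (rmap_eq_iff D.I).1 h
  rw [← hg, Category.assoc, Category.assoc, h1]

theorem Cg.rmap_M {T X : Over (Spec (CommRingCat.of A))} {q q' : T ⟶ X} (h : Cg D q q') :
    rmap D.M q = rmap D.M q' := rmap_ext _ h.inc_M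

instance surjective_cl : Surjective (cl D.I) := by
  refine ⟨fun x => ?_⟩
  have h1 : Set.range (PrimeSpectrum.comap (Ideal.Quotient.mk D.I)) =
      PrimeSpectrum.zeroLocus (D.I : Set A) := by
    rw [range_comap_of_surjective _ _ Ideal.Quotient.mk_surjective, Ideal.mk_ker]
  have h2 : ∀ x : PrimeSpectrum A, x ∈ PrimeSpectrum.zeroLocus (D.I : Set A) := by
    intro x
    rw [PrimeSpectrum.mem_zeroLocus]
    refine (Ideal.span_singleton_le_iff_mem _).2 ?_
    have h3 : D.t * D.t = 0 := (D.ann _).1 D.mem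
    have h4 : D.t * D.t ∈ x.asIdeal := by rw [h3]; exact x.asIdeal.zero_mem
    exact (x.isPrime.mem_or_mem h4).elim id id
  have h2 := h2 x
  rw [← h1] at h2
  exact h2

theorem Cg.cong {T X : Over (Spec (CommRingCat.of A))} {q q' : T ⟶ X} (h : Cg D q q') :
    Cong (cst T ⊤ D.t) q.left q'.left where
  pt x := by
    have : Surjective (inc D.I T) := inferInstance
    obtain ⟨y, rfl⟩ := (inc D.I T).surjective x
    rw [← Scheme.Hom.comp_apply, ← Scheme.Hom.comp_apply, (rmap_eq_iff D.I).1 h]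
  sec V O hO h₁ h₂ a := by
    have h3 : ev q.left h₁ a - ev q'.left h₂ a ∈ D.I.map (cst T O) := by
      rw [← inc_app_eq_zero_iff D.I T hO, map_sub, sub_eq_zero, ← ev_eq_app _ _ le_rfl,
        ← ev_eq_app _ _ le_rfl]
      have e1 : (inc D.I T) ⁻¹ᵁ O ≤ (inc D.I T ≫ q.left) ⁻¹ᵁ V := (inc D.I T).preimage_mono h₁
      have e2 : (inc D.I T) ⁻¹ᵁ O ≤ (inc D.I T ≫ q'.left) ⁻¹ᵁ V := (inc D.I T).preimage_mono h₂
      rw [ev_comp (inc D.I T) q.left h₁ le_rfl e1, ev_comp (inc D.I T) q'.left h₂ le_rfl e2]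
      exact ev_congr ((rmap_eq_iff D.I).1 h) e1 e2 a
    rw [Dat.I, Ideal.map_span, Set.image_singleton, Ideal.mem_span_singleton] at h3
    obtain ⟨b, hb⟩ := h3
    exact ⟨b, by rw [resO_cst, hb]⟩

section Main

variable {X : Over (Spec (CommRingCat.of A))} {ι : Type} [Fintype ι] (F : Frame (red D.M X).hom ι)
  {T : Over (Spec (CommRingCat.of A))} [Flat T.hom]

/-- The difference of `q` and `q'` has coefficients `f`. -/
def IsD (q q' : T ⟶ X) (f : ι → B D T) : Prop :=
  IsDiff (D.tred T) F q.left q'.left (rmap D.M q).left (rmap_inc D.M q).symm f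

variable {F} {q q' q'' : T ⟶ X}

theorem exists_isD (F : Frame (red D.M X).hom ι) (h : Cg D q q') : ∃ f, IsD F q q' f :=
  IsDiff.exist (D.tred T) F _ (D.isTgt X) (by rw [Over.w, Over.w])
    (by rw [h.rmap_M]; exact (rmap_inc D.M q').symm) h.cong

theorem IsD.unique (h : Cg D q q') {f f' : ι → B D T} (hf : IsD F q q' f) (hf' : IsD F q q' f') :
    f = f' :=
  IsDiff.uniq (D.tred T) F _ (D.isTgt X) (by rw [Over.w, Over.w])
    (by rw [h.rmap_M]; exact (rmap_inc D.M q').symm) h.cong.pt hf hf'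

theorem IsD.eq_of_zero (h : Cg D q q') (hf : IsD F q q' 0) : q = q' :=
  Over.OverMorphism.ext (IsDiff.eq_of_zero (D.tred T) F _ h.cong.pt hf)

theorem isD_refl (F : Frame (red D.M X).hom ι) (q : T ⟶ X) : IsD F q q 0 :=
  IsDiff.refl (D.tred T) F _

theorem IsD.trans (h : Cg D q q') {f f' : ι → B D T} (hf : IsD F q q' f)
    (hf' : IsD F q' q'' f') : IsD F q q'' (f + f') := by
  have h1 : inc D.M T ≫ q'.left = (rmap D.M q).left ≫ inc D.M X := by
    rw [h.rmap_M]; exact (rmap_inc D.M q').symm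
  refine IsDiff.add (D.tred T) F _ h.cong.pt h1 hf ?_
  have h2 := hf'
  unfold IsD at h2
  simp only [← h.rmap_M] at h2
  exact h2

theorem IsD.symm (h : Cg D q q') {f : ι → B D T} (hf : IsD F q q' f) : IsD F q' q (-f) := by
  have h1 : inc D.M T ≫ q'.left = (rmap D.M q).left ≫ inc D.M X := by
    rw [h.rmap_M]; exact (rmap_inc D.M q').symm
  have h2 := IsDiff.neg (D.tred T) F _ h.cong.pt h1 hf
  unfold IsD
  simp only [← h.rmap_M]
  exact h2

theorem IsD.comp {T' : Over (Spec (CommRingCat.of A))} [Flat T'.hom] (h : Cg D q q')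
    {f : ι → B D T} (hf : IsD F q q' f) (r : T' ⟶ T) :
    IsD F (r ≫ q) (r ≫ q') (fun j => Bm D r (f j)) := by
  have h0 : rmap D.M (r ≫ q) = rmap D.M r ≫ rmap D.M q := CategoryTheory.Functor.map_comp _ _ _
  have h1 : inc D.M T' ≫ r.left ≫ q.left = ((rmap D.M r).left ≫ (rmap D.M q).left) ≫ inc D.M X := by
    rw [Category.assoc, rmap_inc, ← Category.assoc, ← Category.assoc, rmap_inc]
  have h2 := IsDiff.comp (D.tred T) F _ (D.tred T') r.left (rmap D.M r).left (rmap_inc D.M r).symm
    (appTop_cst r D.t) h1 hf h.cong.pt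
  unfold IsD
  simp only [h0]
  exact h2

theorem exists_add (F : Frame (red D.M X).hom ι) (q : T ⟶ X) (f : ι → B D T) :
    ∃ q' : T ⟶ X, Cg D q' q ∧ IsD F q' q f := by
  have hw := AddF.addF_comp (D.tred T) F q.left (rmap D.M q).left (rmap_inc D.M q).symm f (D.isTgt X)
  let q' : T ⟶ X := Over.homMk (AddF.addF (D.tred T) F q.left (rmap D.M q).left (rmap_inc D.M q).symm f)
    (by rw [hw, Over.w])
  have hc : Cg D q' q := by
    refine rmap_ext _ ?_
    refine AddF.comp_addF (D.tred T) F q.left (rmap D.M q).left (rmap_inc D.M q).symm f (inc D.I T) ?_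
    intro U b
    refine TRed.ext_pre fun V hV hVa => ?_
    obtain ⟨a, ha⟩ := (D.tred T).surj hVa (resO _ ((inc D.M T).preimage_mono hV) b)
    rw [← app_resO (inc D.I T) hV, (D.tred T).resO_tau_of b hV hVa ha, map_mul, resO_cst,
      inc_cst D.I T V (Ideal.mem_span_singleton_self _), zero_mul, map_zero]
  refine ⟨q', hc, ?_⟩
  have h2 := AddF.isDiff_addF (D.tred T) F q.left (rmap D.M q).left (rmap_inc D.M q).symm f
  unfold IsD
  simp only [hc.rmap_M]
  exact h2

end Main

/-- Lifting of morphisms from an affine scheme to a smooth scheme. -/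
theorem exists_lift {T X : Over (Spec (CommRingCat.of A))} [IsAffine T.left] [Smooth X.hom]
    (φ : red D.I T ⟶ red D.I X) : ∃ q : T ⟶ X, rmap D.I q = φ := by
  have hT := isAffineOpen_top T.left
  have : IsAffine (red D.I T).left := by
    have h1 : IsAffineHom (inc D.I T) := inferInstance
    exact isAffine_of_isAffineHom (inc D.I T)
  have hs : Function.Surjective (inc D.I T).appTop.hom :=
    Scheme.Hom.app_surjective (inc D.I T) ⊤ hT
  have hk : RingHom.ker (inc D.I T).appTop.hom ^ 2 = ⊥ := by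
    have h1 : RingHom.ker (inc D.I T).appTop.hom ≤ D.I.map (cst T ⊤) := fun x hx =>
      (inc_app_eq_zero_iff D.I T hT x).1 hx
    rw [eq_bot_iff]
    refine (Ideal.pow_right_mono h1 2).trans ?_
    rw [Dat.I, Ideal.map_span, Set.image_singleton, Ideal.span_singleton_pow, pow_two, ← map_mul,
      (D.ann _).1 D.mem, map_zero, Ideal.span_singleton_eq_bot.2 rfl]
  obtain ⟨l, hl1, hl2⟩ := Groth.Agent.Lefpen.H613.SqLift.exists_lift X.hom (inc D.I T).appTop.hom hs hk
    ((red D.I T).left.isoSpec.inv ≫ φ.left ≫ inc D.I X) (T.left.isoSpec.inv ≫ T.hom) (by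
      have h1 : (red D.I T).left.isoSpec.hom ≫ Spec.map (inc D.I T).appTop = inc D.I T ≫ T.left.isoSpec.hom :=
        Scheme.isoSpec_hom_naturality _
      have h2 : Spec.map (inc D.I T).appTop ≫ T.left.isoSpec.inv =
          (red D.I T).left.isoSpec.inv ≫ inc D.I T := by
        rw [Iso.comp_inv_eq, Category.assoc, ← h1, Iso.inv_hom_id_assoc]
      have h3 : φ.left ≫ (red D.I X).hom = (red D.I T).hom := Over.w φ
      change Spec.map (inc D.I T).appTop ≫ _ = _
      rw [← Category.assoc, h2, Category.assoc, inc_w, Category.assoc, Category.assoc, inc_w,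
        ← Category.assoc φ.left, h3])
  refine ⟨Over.homMk (T.left.isoSpec.hom ≫ l) (by rw [Category.assoc, hl2, Iso.hom_inv_id_assoc]), ?_⟩
  apply Over.OverMorphism.ext
  refine (cancel_mono (inc D.I X)).1 ?_
  rw [rmap_inc]
  have h1 : (red D.I T).left.isoSpec.hom ≫ Spec.map (inc D.I T).appTop = inc D.I T ≫ T.left.isoSpec.hom :=
    Scheme.isoSpec_hom_naturality _
  change inc D.I T ≫ T.left.isoSpec.hom ≫ l = _
  rw [← Category.assoc, ← h1, Category.assoc]
  refine (congrArg (fun g => (red D.I T).left.isoSpec.hom ≫ g) hl1).trans ?_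
  rw [Iso.hom_inv_id_assoc]

end K384.Calc
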