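import Groth.Agent.GIT.K384.Cov
import Mathlib.LinearAlgebra.TensorProduct.Pi
import Mathlib.LinearAlgebra.TensorProduct.RightExactness

/-!
# The linear algebra of Cech cochains on products
-/

set_option autoImplicit false
set_option linter.unusedSectionVars false
universe u

open CategoryTheory CategoryTheory.Limits MonoidalCategory CartesianMonoidalCategory
open AlgebraicGeometry Opposite TopologicalSpace
open K384.Setup K384.Calc K384.TensB K384.Cov
open scoped TensorProduct

namespace K384.CechAlg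

section Alg

variable {k : Type u} [CommRing k]

/-- Over a field, an element of `B ⊗ Q` killed by all functionals on `Q` is zero. -/
theorem eq_zero_of_functionals (hk : IsField k) {B Q : Type u} [AddCommGroup B] [Module k B]
    [AddCommGroup Q] [Module k Q] (z : B ⊗[k] Q) (h : ∀ l : Q →ₗ[k] k, (l.lTensor B) z = 0) : z = 0 := by
  classical
  let _ : Field k := hk.toField
  let b := Module.Basis.ofVectorSpace k Q
  have h1 : ∀ (w : B ⊗[k] Q) (i : Module.Basis.ofVectorSpaceIndex k Q),
      TensorProduct.equivFinsuppOfBasisRight b w i = TensorProduct.rid k B ((b.coord i).lTensor B w) := by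
    intro w i
    induction w using TensorProduct.induction_on with
    | zero => simp
    | tmul x y =>
      rw [TensorProduct.equivFinsuppOfBasisRight_apply_tmul_apply, LinearMap.lTensor_tmul,
        TensorProduct.rid_tmul]
      rfl
    | add x y hx hy => rw [map_add, map_add, map_add, Finsupp.add_apply, hx, hy]
  apply (TensorProduct.equivFinsuppOfBasisRight b).injective
  ext i
  rw [h1, h, map_zero, map_zero]
  rfl

/-- Elements of `B ⊗ C₁` killed by the functionals vanishing on the image of `d` are in the image of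
`B ⊗ d`. -/
theorem exists_of_functionals (hk : IsField k) {B C₀ C₁ : Type u} [AddCommGroup B] [Module k B]
    [AddCommGroup C₀] [Module k C₀] [AddCommGroup C₁] [Module k C₁] (d : C₀ →ₗ[k] C₁) (z : B ⊗[k] C₁)
    (h : ∀ l : C₁ →ₗ[k] k, l ∘ₗ d = 0 → (l.lTensor B) z = 0) : ∃ w : B ⊗[k] C₀, d.lTensor B w = z := by
  have h1 : (LinearMap.range d).mkQ.lTensor B z = 0 := by
    apply eq_zero_of_functionals hk
    intro l
    have h2 := h (l ∘ₗ (LinearMap.range d).mkQ) (by
      ext x
      change l ((LinearMap.range d).mkQ (d x)) = 0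
      rw [Submodule.mkQ_apply, (Submodule.Quotient.mk_eq_zero (LinearMap.range d)).2
        (LinearMap.mem_range_self d x), map_zero])
    rw [LinearMap.lTensor_comp] at h2
    exact h2
  have h3 : Function.Exact d (LinearMap.range d).mkQ := by
    intro y
    rw [← LinearMap.mem_ker, Submodule.ker_mkQ, LinearMap.mem_range]
    rfl
  exact (lTensor_exact B h3 (Submodule.mkQ_surjective _) z).1 h1

end Alg

section Fam

variable {A : Type u} [CommRing A] (D : Dat A)

/-- The comparison map for functions on products with a finite family. -/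
noncomputable def Psi (T : Over (Spec (CommRingCat.of A))) {π : Type u} [Fintype π] [DecidableEq π]
    (U : π → Over (Spec (CommRingCat.of A))) :
    B D T ⊗[A ⧸ D.M] (∀ p, B D (U p)) →ₗ[A ⧸ D.M] (∀ p, B D (T ⊗ U p)) :=
  (LinearMap.pi fun p => (mu D T (U p)).toLinearMap ∘ₗ LinearMap.proj p) ∘ₗ
    (TensorProduct.piRight (A ⧸ D.M) (A ⧸ D.M) (B D T) (fun p => B D (U p))).toLinearMap

variable {π : Type u} [Fintype π] [DecidableEq π]

theorem Psi_apply (T : Over (Spec (CommRingCat.of A))) (U : π → Over (Spec (CommRingCat.of A)))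
    (z : B D T ⊗[A ⧸ D.M] (∀ p, B D (U p))) (p : π) : Psi D T U z p =
      mu D T (U p) (TensorProduct.piRight (A ⧸ D.M) (A ⧸ D.M) (B D T) (fun p => B D (U p)) z p) := rfl

theorem Psi_tmul (T : Over (Spec (CommRingCat.of A))) (U : π → Over (Spec (CommRingCat.of A)))
    (x : B D T) (y : ∀ p, B D (U p)) (p : π) : Psi D T U (x ⊗ₜ y) p =
      Bm D (fst T (U p)) x * Bm D (snd T (U p)) (y p) := by
  rw [Psi_apply, TensorProduct.piRight_apply, TensorProduct.piRightHom_tmul, mu_tmul]

variable {D} in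
theorem bijective_Psi (hM : D.M.IsMaximal) (T : Over (Spec (CommRingCat.of A)))
    (U : π → Over (Spec (CommRingCat.of A))) [QuasiCompact T.hom] [QuasiSeparated T.hom]
    [∀ p, QuasiCompact (U p).hom] [∀ p, QuasiSeparated (U p).hom] [∀ p, Flat (U p).hom] :
    Function.Bijective (Psi D T U) := by
  have hb := fun p => bijective_mu D hM T (U p)
  refine ⟨(injective_iff_map_eq_zero _).2 fun z hz => ?_, fun f => ?_⟩
  · apply (TensorProduct.piRight (A ⧸ D.M) (A ⧸ D.M) (B D T) (fun p => B D (U p))).injective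
    rw [map_zero]
    funext p
    apply (hb p).1
    have h1 := congrFun hz p
    rw [Psi_apply] at h1
    rw [h1, Pi.zero_apply, Pi.zero_apply, map_zero]
  · choose w hw using fun p => (hb p).2 (f p)
    refine ⟨(TensorProduct.piRight (A ⧸ D.M) (A ⧸ D.M) (B D T) (fun p => B D (U p))).symm w, ?_⟩
    funext p
    rw [Psi_apply, LinearEquiv.apply_symm_apply, hw]

theorem Psi_nat {T T' : Over (Spec (CommRingCat.of A))} (r : T' ⟶ T)
    (U : π → Over (Spec (CommRingCat.of A))) (z : B D T ⊗[A ⧸ D.M] (∀ p, B D (U p))) (p : π) :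
    Bm D (r ▷ U p) (Psi D T U z p) = Psi D T' U ((BmA D r).toLinearMap.rTensor _ z) p := by
  induction z using TensorProduct.induction_on with
  | zero => simp
  | tmul x y =>
    rw [LinearMap.rTensor_tmul, Psi_tmul, Psi_tmul, map_mul, ← Bm_comp, ← Bm_comp, whiskerRight_fst,
      whiskerRight_snd, Bm_comp]
    rfl
  | add x y hx hy =>
    rw [map_add, map_add, map_add, Pi.add_apply, Pi.add_apply, map_add, hx, hy]

end Fam

section Cech

variable {A : Type u} [CommRing A] (D : Dat A) {X : Over (Spec (CommRingCat.of A))}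
  {α : Type u} [Fintype α] [DecidableEq α] (V : α → X.left.Opens)

/-- The members of the cover. -/
noncomputable abbrev U0 (a : α) : Over (Spec (CommRingCat.of A)) := opn X (V a)

/-- The intersections. -/
noncomputable abbrev U1 (p : α × α) : Over (Spec (CommRingCat.of A)) := opn X (V p.1 ⊓ V p.2)

/-- first restriction -/
noncomputable abbrev r1 (p : α × α) : U1 V p ⟶ U0 V p.1 := opLE X inf_le_left

/-- second restriction -/
noncomputable abbrev r2 (p : α × α) : U1 V p ⟶ U0 V p.2 := opLE X inf_le_right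

/-- The Cech differential. -/
noncomputable def dC : (∀ a, B D (U0 V a)) →ₗ[A ⧸ D.M] (∀ p, B D (U1 V p)) :=
  LinearMap.pi fun p => (BmA D (r1 V p)).toLinearMap ∘ₗ LinearMap.proj p.1 -
    (BmA D (r2 V p)).toLinearMap ∘ₗ LinearMap.proj p.2

theorem dC_apply (y : ∀ a, B D (U0 V a)) (p : α × α) :
    dC D V y p = Bm D (r1 V p) (y p.1) - Bm D (r2 V p) (y p.2) := rfl

theorem Psi_dC (T : Over (Spec (CommRingCat.of A))) (z : B D T ⊗[A ⧸ D.M] (∀ a, B D (U0 V a)))
    (p : α × α) : Psi D T (U1 V) ((dC D V).lTensor _ z) p =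
      Bm D (T ◁ r1 V p) (Psi D T (U0 V) z p.1) - Bm D (T ◁ r2 V p) (Psi D T (U0 V) z p.2) := by
  induction z using TensorProduct.induction_on with
  | zero => simp
  | tmul x y =>
    rw [LinearMap.lTensor_tmul, Psi_tmul, Psi_tmul, Psi_tmul, dC_apply, map_mul, map_mul, ← Bm_comp,
      ← Bm_comp, ← Bm_comp, ← Bm_comp, whiskerLeft_fst, whiskerLeft_fst, whiskerLeft_snd,
      whiskerLeft_snd, Bm_comp, Bm_comp, map_sub]
    ring
  | add x y hx hy =>
    rw [map_add, map_add, map_add, Pi.add_apply, Pi.add_apply, Pi.add_apply, map_add, map_add, hx, hy]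
    ring

variable {D}

/-- The functionals on Cech cochains vanishing on coboundaries. -/
abbrev Fun (D : Dat A) (V : α → X.left.Opens) : Type u :=
  {l : (∀ p, B D (U1 V p)) →ₗ[A ⧸ D.M] (A ⧸ D.M) // l ∘ₗ dC D V = 0}

/-- Evaluation of a functional on relative cochains. -/
noncomputable def evl (hM : D.M.IsMaximal) (T : Over (Spec (CommRingCat.of A))) [QuasiCompact T.hom]
    [QuasiSeparated T.hom] [∀ p, QuasiCompact (U1 V p).hom] [∀ p, QuasiSeparated (U1 V p).hom]
    [∀ p, Flat (U1 V p).hom] (l : Fun D V) : (∀ p, B D (T ⊗ U1 V p)) →ₗ[A ⧸ D.M] B D T :=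
  (TensorProduct.rid (A ⧸ D.M) (B D T)).toLinearMap ∘ₗ (l.1.lTensor (B D T)) ∘ₗ
    (LinearEquiv.ofBijective _ (bijective_Psi hM T (U1 V))).symm.toLinearMap

variable (hM : D.M.IsMaximal) (T : Over (Spec (CommRingCat.of A))) [QuasiCompact T.hom]
    [QuasiSeparated T.hom] [∀ p, QuasiCompact (U1 V p).hom] [∀ p, QuasiSeparated (U1 V p).hom]
    [∀ p, Flat (U1 V p).hom]

theorem evl_Psi (l : Fun D V) (z : B D T ⊗[A ⧸ D.M] (∀ p, B D (U1 V p))) :
    evl V hM T l (Psi D T (U1 V) z) = TensorProduct.rid (A ⧸ D.M) (B D T) (l.1.lTensor (B D T) z) := by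
  have : (LinearEquiv.ofBijective _ (bijective_Psi hM T (U1 V))).symm (Psi D T (U1 V) z) = z :=
    (LinearEquiv.ofBijective _ (bijective_Psi hM T (U1 V))).symm_apply_apply z
  change TensorProduct.rid _ _ (l.1.lTensor (B D T) ((LinearEquiv.ofBijective _
    (bijective_Psi hM T (U1 V))).symm (Psi D T (U1 V) z))) = _
  rw [this]

theorem evl_coboundary [∀ a, QuasiCompact (U0 V a).hom] [∀ a, QuasiSeparated (U0 V a).hom]
    [∀ a, Flat (U0 V a).hom] (l : Fun D V) (y : ∀ a, B D (T ⊗ U0 V a)) :
    evl V hM T l (fun p => Bm D (T ◁ r1 V p) (y p.1) - Bm D (T ◁ r2 V p) (y p.2)) = 0 := by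
  obtain ⟨z, rfl⟩ := (bijective_Psi hM T (U0 V)).2 y
  have : (fun p => Bm D (T ◁ r1 V p) (Psi D T (U0 V) z p.1) - Bm D (T ◁ r2 V p) (Psi D T (U0 V) z p.2)) =
      Psi D T (U1 V) ((dC D V).lTensor _ z) := by
    funext p
    rw [Psi_dC]
  rw [this, evl_Psi, ← LinearMap.comp_apply, ← LinearMap.lTensor_comp, l.2, LinearMap.lTensor_zero]
  simp

theorem exists_of_evl [∀ a, QuasiCompact (U0 V a).hom] [∀ a, QuasiSeparated (U0 V a).hom]
    [∀ a, Flat (U0 V a).hom] (f : ∀ p, B D (T ⊗ U1 V p)) (hf : ∀ l : Fun D V, evl V hM T l f = 0) :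
    ∃ y : ∀ a, B D (T ⊗ U0 V a), ∀ p, f p = Bm D (T ◁ r1 V p) (y p.1) - Bm D (T ◁ r2 V p) (y p.2) := by
  obtain ⟨z, rfl⟩ := (bijective_Psi hM T (U1 V)).2 f
  obtain ⟨w, hw⟩ := exists_of_functionals
    ((Ideal.Quotient.maximal_ideal_iff_isField_quotient D.M).1 hM) (dC D V) z (by
      intro l hl
      have h1 := hf ⟨l, hl⟩
      rw [evl_Psi] at h1
      exact (TensorProduct.rid (A ⧸ D.M) (B D T)).injective (h1.trans (map_zero _).symm))
  refine ⟨Psi D T (U0 V) w, fun p => ?_⟩
  rw [← hw, Psi_dC]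

theorem Bm_evl {T' : Over (Spec (CommRingCat.of A))} [QuasiCompact T'.hom] [QuasiSeparated T'.hom]
    (r : T' ⟶ T) (l : Fun D V) (f : ∀ p, B D (T ⊗ U1 V p)) :
    Bm D r (evl V hM T l f) = evl V hM T' l (fun p => Bm D (r ▷ U1 V p) (f p)) := by
  obtain ⟨z, rfl⟩ := (bijective_Psi hM T (U1 V)).2 f
  have h1 : (fun p => Bm D (r ▷ U1 V p) (Psi D T (U1 V) z p)) =
      Psi D T' (U1 V) ((BmA D r).toLinearMap.rTensor _ z) := by
    funext p
    rw [Psi_nat]
  rw [h1, evl_Psi, evl_Psi, ← BmA_apply]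
  induction z using TensorProduct.induction_on with
  | zero => simp
  | tmul x y =>
    rw [LinearMap.rTensor_tmul, LinearMap.lTensor_tmul, LinearMap.lTensor_tmul, TensorProduct.rid_tmul,
      TensorProduct.rid_tmul, map_smul]
    rfl
  | add x y hx hy =>
    have hx' := hx (by funext p; rw [Psi_nat])
    have hy' := hy (by funext p; rw [Psi_nat])
    simp only [map_add, hx', hy']

end Cech

end K384.CechAlg
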