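import Groth.Agent.GIT.K384.CechAlg

/-!
# The obstruction to lifting a morphism `T ⊗ X → X`
-/

set_option autoImplicit false
set_option linter.unusedSectionVars false
universe u

open CategoryTheory CategoryTheory.Limits MonoidalCategory CartesianMonoidalCategory
open AlgebraicGeometry Opposite TopologicalSpace
open K384.Setup K384.Calc K384.TensB K384.Cov K384.CechAlg K384.Dif

namespace K384.Cls

section Inst

variable {A : Type u} [CommRing A]

instance flat_tensor (T U : Over (Spec (CommRingCat.of A))) [Flat T.hom] [Flat U.hom] :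
    Flat (T ⊗ U).hom := by
  have : (T ⊗ U).hom = pullback.fst T.hom U.hom ≫ T.hom := rfl
  rw [this]
  infer_instance

instance affine_tensor (T U : Over (Spec (CommRingCat.of A))) [IsAffine T.left] [IsAffine U.left] :
    IsAffine (T ⊗ U).left := inferInstanceAs (IsAffine (pullback T.hom U.hom))

instance flat_opn (X : Over (Spec (CommRingCat.of A))) (V : X.left.Opens) [Flat X.hom] :
    Flat (opn X V).hom := inferInstanceAs (Flat (V.ι ≫ X.hom))

instance flat_unit : Flat (𝟙_ (Over (Spec (CommRingCat.of A)))).hom :=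
  inferInstanceAs (Flat (𝟙 (Spec (CommRingCat.of A))))

instance affine_unit : IsAffine (𝟙_ (Over (Spec (CommRingCat.of A)))).left :=
  inferInstanceAs (IsAffine (Spec (CommRingCat.of A)))

end Inst

variable {A : Type u} [CommRing A] {D : Dat A} {X : Over (Spec (CommRingCat.of A))}

/-- `q` lifts `φ` over `g`. -/
def Lift (φ : red D.I (X ⊗ X) ⟶ red D.I X) {W : Over (Spec (CommRingCat.of A))} (g : W ⟶ X ⊗ X)
    (q : W ⟶ X) : Prop := rmap D.I q = rmap D.I g ≫ φ

variable {φ : red D.I (X ⊗ X) ⟶ red D.I X}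

theorem Lift.cg {W : Over (Spec (CommRingCat.of A))} {g : W ⟶ X ⊗ X} {q q' : W ⟶ X}
    (h : Lift φ g q) (h' : Lift φ g q') : Cg D q q' := Eq.trans h (Eq.symm h')

theorem Lift.of_cg {W : Over (Spec (CommRingCat.of A))} {g : W ⟶ X ⊗ X} {q q' : W ⟶ X}
    (h : Lift φ g q) (h' : Cg D q' q) : Lift φ g q' := Eq.trans h' h

theorem Lift.comp {W W' : Over (Spec (CommRingCat.of A))} {g : W ⟶ X ⊗ X} {q : W ⟶ X}
    (h : Lift φ g q) (r : W' ⟶ W) : Lift φ (r ≫ g) (r ≫ q) := by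
  have h1 : rmap D.I q = rmap D.I g ≫ φ := h
  change (Over.pullback (cl D.I)).map (r ≫ q) = (Over.pullback (cl D.I)).map (r ≫ g) ≫ φ
  rw [Functor.map_comp, Functor.map_comp, Category.assoc]
  exact congrArg _ h1

/-- Lifting is local. -/
theorem Lift.of_cover {W : Over (Spec (CommRingCat.of A))} {κ : Type u} {P : κ → Over (Spec (CommRingCat.of A))}
    (g : ∀ i, P i ⟶ W) [∀ i, IsOpenImmersion (g i).left]
    (hs : ∀ w : W.left, ∃ i, w ∈ Set.range (g i).left) {h : W ⟶ X ⊗ X} {q : W ⟶ X}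
    (H : ∀ i, Lift φ (g i ≫ h) (g i ≫ q)) : Lift φ h q := by
  have hP := fun i => isPullback_map_left D.I (g i)
  have hop : ∀ i, IsOpenImmersion (rmap D.I (g i)).left := fun i =>
    MorphismProperty.of_isPullback (P := @IsOpenImmersion) (hP i).flip inferInstance
  refine hom_ext_cov (fun i => rmap D.I (g i)) (fun w => ?_) fun i => ?_
  · obtain ⟨i, hi⟩ := hs (inc D.I W w)
    exact ⟨i, mem_range_of_isPullback (hP i) hi⟩
  · have h1 : (Over.pullback (cl D.I)).map (g i ≫ q) = (Over.pullback (cl D.I)).map (g i ≫ h) ≫ φ := H i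
    rw [Functor.map_comp, Functor.map_comp, Category.assoc] at h1
    exact h1

theorem exists_Lift [Smooth X.hom] (φ : red D.I (X ⊗ X) ⟶ red D.I X)
    {W : Over (Spec (CommRingCat.of A))} [IsAffine W.left] (g : W ⟶ X ⊗ X) :
    ∃ q : W ⟶ X, Lift φ g q := exists_lift (rmap D.I g ≫ φ)

variable {ι : Type} [Fintype ι] (F : Frame (red D.M X).hom ι) (φ)
  {α : Type u} [Fintype α] [DecidableEq α] (V : α → X.left.Opens)

/-- The structure morphisms of the cover. -/
noncomputable abbrev g0 {T : Over (Spec (CommRingCat.of A))} (y : T ⟶ X) (a : α) : T ⊗ U0 V a ⟶ X ⊗ X :=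
  (T ◁ opι X (V a)) ≫ (y ▷ X)

variable (hM : D.M.IsMaximal) [Flat X.hom] [∀ a, IsAffine (U0 V a).left] [∀ p, IsAffine (U1 V p).left]

/-- The obstruction to lifting `φ ∘ (y × id)` to `T ⊗ X`. -/
def HasOb {T : Over (Spec (CommRingCat.of A))} [IsAffine T.left] [Flat T.hom] (y : T ⟶ X)
    (c : ι → Fun D V → B D T) : Prop :=
  ∃ (q : ∀ a, T ⊗ U0 V a ⟶ X) (f : ∀ p, ι → B D (T ⊗ U1 V p)), (∀ a, Lift φ (g0 V y a) (q a)) ∧
    (∀ p, IsD F ((T ◁ r1 V p) ≫ q p.1) ((T ◁ r2 V p) ≫ q p.2) (f p)) ∧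
    ∀ j l, c j l = evl V hM T l (fun p => f p j)

variable {T : Over (Spec (CommRingCat.of A))} [IsAffine T.left] [Flat T.hom] {y : T ⟶ X}

theorem r_g0 (p : α × α) : (T ◁ r1 V p) ≫ g0 V y p.1 = (T ◁ r2 V p) ≫ g0 V y p.2 := by
  rw [g0, g0, ← whiskerLeft_comp_assoc, ← whiskerLeft_comp_assoc, opLE_opι, opLE_opι]

theorem exists_hasOb [Smooth X.hom] (y : T ⟶ X) : ∃ c, HasOb φ F V hM y c := by
  choose q hq using fun a => exists_Lift φ (g0 V y a)
  have hc : ∀ p : α × α, Cg D ((T ◁ r1 V p) ≫ q p.1) ((T ◁ r2 V p) ≫ q p.2) := fun p => by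
    have h1 := (hq p.1).comp (T ◁ r1 V p)
    have h2 := (hq p.2).comp (T ◁ r2 V p)
    rw [r_g0] at h1
    exact h1.cg h2
  choose f hf using fun p => exists_isD F (hc p)
  exact ⟨_, q, f, hq, hf, fun j l => rfl⟩

variable {φ F V hM}

theorem HasOb.unique {c c' : ι → Fun D V → B D T} (h : HasOb φ F V hM y c)
    (h' : HasOb φ F V hM y c') : c = c' := by
  obtain ⟨q, f, hq, hf, hc⟩ := h
  obtain ⟨q', f', hq', hf', hc'⟩ := h'
  choose s hs using fun a => exists_isD F ((hq a).cg (hq' a))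
  funext j l
  rw [hc, hc', ← sub_eq_zero, ← map_sub]
  have key : ∀ p, f p j - f' p j = Bm D (T ◁ r1 V p) (s p.1 j) - Bm D (T ◁ r2 V p) (s p.2 j) := by
    intro p
    have c1 : Cg D ((T ◁ r1 V p) ≫ q p.1) ((T ◁ r2 V p) ≫ q p.2) := by
      have h1 := (hq p.1).comp (T ◁ r1 V p)
      have h2 := (hq p.2).comp (T ◁ r2 V p)
      rw [r_g0] at h1
      exact h1.cg h2
    have c2 : Cg D ((T ◁ r1 V p) ≫ q p.1) ((T ◁ r1 V p) ≫ q' p.1) := ((hq p.1).cg (hq' p.1)).comp _
    have c3 : Cg D ((T ◁ r2 V p) ≫ q p.2) ((T ◁ r2 V p) ≫ q' p.2) := ((hq p.2).cg (hq' p.2)).comp _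
    have e1 := (hs p.1).comp ((hq p.1).cg (hq' p.1)) (T ◁ r1 V p)
    have e2 := (hs p.2).comp ((hq p.2).cg (hq' p.2)) (T ◁ r2 V p)
    have e3 := (hf p).trans c1 e2
    have e4 := e1.trans c2 (hf' p)
    have e5 := congrFun (e3.unique (c1.trans c3) e4) j
    simp only [Pi.add_apply] at e5
    linear_combination e5
  have h1 : (fun p => f p j) - (fun p => f' p j) =
      fun p => Bm D (T ◁ r1 V p) (s p.1 j) - Bm D (T ◁ r2 V p) (s p.2 j) := by
    funext p
    exact key p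
  rw [h1]
  exact evl_coboundary V hM T l (fun a => s a j)

theorem HasOb.comp {T' : Over (Spec (CommRingCat.of A))} [IsAffine T'.left] [Flat T'.hom] (r : T' ⟶ T)
    {c : ι → Fun D V → B D T} (h : HasOb φ F V hM y c) :
    HasOb φ F V hM (r ≫ y) (fun j l => Bm D r (c j l)) := by
  obtain ⟨q, f, hq, hf, hc⟩ := h
  refine ⟨fun a => (r ▷ U0 V a) ≫ q a, fun p j => Bm D (r ▷ U1 V p) (f p j), fun a => ?_, fun p => ?_,
    fun j l => ?_⟩
  · have h1 := (hq a).comp (r ▷ U0 V a)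
    have h2 : (r ▷ U0 V a) ≫ g0 V y a = g0 V (r ≫ y) a := by
      rw [g0, g0, ← whisker_exchange_assoc, comp_whiskerRight]
    rw [h2] at h1
    exact h1
  · have c1 : Cg D ((T ◁ r1 V p) ≫ q p.1) ((T ◁ r2 V p) ≫ q p.2) := by
      have h1 := (hq p.1).comp (T ◁ r1 V p)
      have h2 := (hq p.2).comp (T ◁ r2 V p)
      rw [r_g0] at h1
      exact h1.cg h2
    have h1 := (hf p).comp c1 (r ▷ U1 V p)
    rw [← whisker_exchange_assoc, ← whisker_exchange_assoc] at h1
    exact h1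
  · change Bm D r (c j l) = _
    rw [hc, Bm_evl]

/-- A global lift kills the obstruction. -/
theorem hasOb_zero (q : T ⊗ X ⟶ X) (hq : Lift φ (y ▷ X) q) : HasOb φ F V hM y 0 := by
  refine ⟨fun a => (T ◁ opι X (V a)) ≫ q, fun p => 0, fun a => hq.comp _, fun p => ?_, fun j l => ?_⟩
  · have h1 : (T ◁ r1 V p) ≫ (T ◁ opι X (V p.1)) ≫ q = (T ◁ r2 V p) ≫ (T ◁ opι X (V p.2)) ≫ q := by
      rw [← whiskerLeft_comp_assoc, ← whiskerLeft_comp_assoc, opLE_opι, opLE_opι]
    rw [← h1]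
    exact isD_refl F _
  · have h1 : (fun p : α × α => (0 : ι → B D (T ⊗ U1 V p)) j) = 0 := rfl
    rw [h1, map_zero]
    rfl

/-- If the obstruction vanishes there is a global lift. -/
theorem HasOb.exists_lift (hcov : ∀ x : X.left, ∃ a, x ∈ V a) (h : HasOb φ F V hM y 0) :
    ∃ q : T ⊗ X ⟶ X, Lift φ (y ▷ X) q := by
  obtain ⟨q, f, hq, hf, hc⟩ := h
  have h1 : ∀ j, ∃ s : ∀ a, B D (T ⊗ U0 V a), ∀ p,
      f p j = Bm D (T ◁ r1 V p) (s p.1) - Bm D (T ◁ r2 V p) (s p.2) := fun j =>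
    exists_of_evl V hM T (fun p => f p j) (fun l => (hc j l).symm)
  choose s hs using h1
  choose q' hcg hq' using fun a => exists_add F (q a) (fun j => - s j a)
  have hL : ∀ a, Lift φ (g0 V y a) (q' a) := fun a => (hq a).of_cg (hcg a)
  have hov : ∀ p : α × α, (T ◁ r1 V p) ≫ q' p.1 = (T ◁ r2 V p) ≫ q' p.2 := by
    intro p
    have c1 : Cg D ((T ◁ r1 V p) ≫ q p.1) ((T ◁ r2 V p) ≫ q p.2) := by
      have h1 := (hq p.1).comp (T ◁ r1 V p)
      have h2 := (hq p.2).comp (T ◁ r2 V p)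
      rw [r_g0] at h1
      exact h1.cg h2
    have c2 : Cg D ((T ◁ r1 V p) ≫ q' p.1) ((T ◁ r1 V p) ≫ q p.1) := (hcg p.1).comp _
    have c3 : Cg D ((T ◁ r2 V p) ≫ q' p.2) ((T ◁ r2 V p) ≫ q p.2) := (hcg p.2).comp _
    have e1 := (hq' p.1).comp (hcg p.1) (T ◁ r1 V p)
    have e2 := ((hq' p.2).comp (hcg p.2) (T ◁ r2 V p)).symm c3
    have e3 := (e1.trans c2 (hf p)).trans (c2.trans c1) e2
    refine IsD.eq_of_zero (F := F) ((c2.trans c1).trans c3.symm) ?_
    convert! e3 using 1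
    funext j
    have e4 := hs j p
    simp only [Pi.add_apply, Pi.neg_apply, map_neg, Pi.zero_apply]
    linear_combination -e4
  have hsurj := surj_whiskerLeft (fun a => opι X (V a)) (fun x => by
      obtain ⟨a, ha⟩ := hcov x
      refine ⟨a, ?_⟩
      rw [opι_left, Scheme.Opens.range_ι]
      exact ha) T
  obtain ⟨c, hc'⟩ := exists_glue (fun a => T ◁ opι X (V a)) hsurj q' (by
    intro a b Z z z' hz
    have e1 : z ≫ fst T (U0 V a) = z' ≫ fst T (U0 V b) := by
      have := congrArg (fun m => m ≫ fst T X) hz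
      simpa using this
    have e2 : (z ≫ snd T (U0 V a)) ≫ opι X (V a) = (z' ≫ snd T (U0 V b)) ≫ opι X (V b) := by
      have := congrArg (fun m => m ≫ snd T X) hz
      simpa using this
    obtain ⟨w, hw1, hw2⟩ := exists_inf X _ _ e2
    have e3 : z = lift (z ≫ fst T (U0 V a)) w ≫ (T ◁ r1 V (a, b)) := by
      apply CartesianMonoidalCategory.hom_ext
      · simp
      · rw [Category.assoc, whiskerLeft_snd, lift_snd_assoc]
        exact hw1.symm
    have e4 : z' = lift (z ≫ fst T (U0 V a)) w ≫ (T ◁ r2 V (a, b)) := by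
      apply CartesianMonoidalCategory.hom_ext
      · simp [e1]
      · rw [Category.assoc, whiskerLeft_snd, lift_snd_assoc]
        exact hw2.symm
    rw [e3, e4, Category.assoc, Category.assoc, hov (a, b)])
  refine ⟨c, Lift.of_cover (fun a => T ◁ opι X (V a)) hsurj fun a => ?_⟩
  rw [hc' a]
  exact hL a

end K384.Cls
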