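import Groth.Agent.GIT.K384.TensB
import Groth.Agent.Sga3B.Par.EtGlue

/-!
# Zariski covers in `Over S`; gluing of morphisms and of functions on reductions
-/

set_option autoImplicit false
universe u

open CategoryTheory CategoryTheory.Limits MonoidalCategory CartesianMonoidalCategory
open AlgebraicGeometry Opposite TopologicalSpace
open Groth.Agent.Sga67.Sec (resO resO_resO resO_self eqO_of_locally)
open K696.Base K384.Tau K384.Setup K384.Calc K384.TensB

namespace K384.Cov

section Sch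

/-- Gluing of global functions along a jointly surjective family of open immersions. -/
theorem exists_glue_fn {P : Scheme.{u}} {ι : Type u} {U : ι → Scheme.{u}} (k : ∀ i, U i ⟶ P)
    [∀ i, IsOpenImmersion (k i)] (hs : ∀ p : P, ∃ i, p ∈ Set.range (k i)) (f : ∀ i, Γ(U i, ⊤))
    (hf : ∀ (i j : ι) (Z : Scheme.{u}) (a : Z ⟶ U i) (b : Z ⟶ U j), a ≫ k i = b ≫ k j →
      a.appTop (f i) = b.appTop (f j)) : ∃ F : Γ(P, ⊤), ∀ i, (k i).appTop F = f i := by
  have hle : ∀ i, (⊤ : (U i).Opens) ≤ (k i) ⁻¹ᵁ ((k i) ''ᵁ ⊤) := fun i x hx => ⟨x, hx, rfl⟩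
  have hex : ∀ i, ∃ g : Γ(P, (k i) ''ᵁ ⊤), ev (k i) (hle i) g = f i := by
    intro i
    refine ⟨((k i).appIso ⊤).inv (f i), ?_⟩
    refine (congr($(Scheme.Hom.appIso_inv_appLE (k i) (hle i)) (f i))).trans ?_
    exact resO_self (X := U i) le_rfl (f i)
  choose g hg using hex
  have key : ∀ (i : ι) (V : P.Opens) (hV : V ≤ (k i) ''ᵁ ⊤) (a : V.toScheme ⟶ U i) (ha : a ≫ k i = V.ι),
      a.appTop (f i) = ev V.ι (show (⊤ : V.toScheme.Opens) ≤ V.ι ⁻¹ᵁ V from (V.ι_preimage_self).ge) (resO P hV (g i)) := by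
    intro i V hV a ha
    have e0 : (⊤ : V.toScheme.Opens) ≤ a ⁻¹ᵁ ⊤ := le_rfl
    have e1 : (⊤ : V.toScheme.Opens) ≤ (a ≫ k i) ⁻¹ᵁ ((k i) ''ᵁ ⊤) := fun x _ => ⟨a x, trivial, rfl⟩
    have e2 : (⊤ : V.toScheme.Opens) ≤ V.ι ⁻¹ᵁ ((k i) ''ᵁ ⊤) := by rw [← ha]; exact e1
    have e3 : a.appTop (f i) = ev a e0 (f i) := (ev_eq_app a (f i) e0).symm
    rw [e3, ← hg i, ev_comp a (k i) (hle i) e0 e1, ev_congr ha e1 e2, ev_res V.ι e2 hV]
  obtain ⟨F, hF⟩ := K696.LHom.exists_glue_fn (X := P) (W := ⊤) (fun i => (k i) ''ᵁ ⊤) (fun i => le_top)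
    (fun x _ => by
      obtain ⟨i, y, hy⟩ := hs x
      exact ⟨i, y, trivial, hy⟩) g (by
    intro i j x hx hx'
    refine ⟨(k i) ''ᵁ ⊤ ⊓ (k j) ''ᵁ ⊤, inf_le_left, inf_le_right, ⟨hx, hx'⟩, ?_⟩
    set V : P.Opens := (k i) ''ᵁ ⊤ ⊓ (k j) ''ᵁ ⊤ with hV
    have r1 : Set.range V.ι ⊆ Set.range (k i) := by
      rw [Scheme.Opens.range_ι]
      rintro _ ⟨⟨y, -, rfl⟩, -⟩
      exact ⟨y, rfl⟩
    have r2 : Set.range V.ι ⊆ Set.range (k j) := by
      rw [Scheme.Opens.range_ι]
      rintro _ ⟨-, ⟨y, -, rfl⟩⟩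
      exact ⟨y, rfl⟩
    have h1 := key i V inf_le_left (IsOpenImmersion.lift (k i) V.ι r1) (IsOpenImmersion.lift_fac _ _ _)
    have h2 := key j V inf_le_right (IsOpenImmersion.lift (k j) V.ι r2) (IsOpenImmersion.lift_fac _ _ _)
    have h3 := hf i j V.toScheme (IsOpenImmersion.lift (k i) V.ι r1) (IsOpenImmersion.lift (k j) V.ι r2)
      (by rw [IsOpenImmersion.lift_fac, IsOpenImmersion.lift_fac])
    rw [h1, h2] at h3
    have h4 := congrArg (resO V.toScheme (le_top : V.ι ⁻¹ᵁ V ≤ ⊤)) h3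
    rw [res_ev, res_ev] at h4
    have h5 := congrArg (down V le_rfl) h4
    rw [down_ev, down_ev] at h5
    exact h5)
  refine ⟨F, fun i => ?_⟩
  have e0 : (⊤ : (U i).Opens) ≤ (k i) ⁻¹ᵁ ⊤ := le_rfl
  have e1 : (k i).appTop F = ev (k i) e0 F := (ev_eq_app (k i) F e0).symm
  rw [e1, ← ev_res (k i) e0 le_top (hle i), hF, hg]

end Sch

section Over

variable {S : Scheme.{u}}

/-- Gluing of morphisms in `Over S` along a Zariski cover. -/
theorem exists_glue {W Y : Over S} {ι : Type u} {V : ι → Over S} (g : ∀ i, V i ⟶ W)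
    [∀ i, IsOpenImmersion (g i).left] (hs : ∀ w : W.left, ∃ i, w ∈ Set.range (g i).left)
    (x : ∀ i, V i ⟶ Y) (hx : ∀ (i j : ι) (Z : Over S) (a : Z ⟶ V i) (b : Z ⟶ V j),
      a ≫ g i = b ≫ g j → a ≫ x i = b ≫ x j) : ∃ c : W ⟶ Y, ∀ i, g i ≫ c = x i := by
  obtain ⟨c, hc, -⟩ := Groth.Agent.Sga3B.Par.EtGlue.existsUnique_glue (fun i => (g i).left) hs
    (fun i => (x i).left) (by
      intro i j Z a b hab
      let a' : Over.mk (a ≫ (V i).hom) ⟶ V i := Over.homMk a rfl
      let b' : Over.mk (a ≫ (V i).hom) ⟶ V j := Over.homMk b (by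
        rw [← Over.w (g j), ← Category.assoc, ← hab, Category.assoc, Over.w]
        rfl)
      exact congrArg (fun m => m.left) (hx i j _ a' b' (Over.OverMorphism.ext hab)))
  refine ⟨Over.homMk c ?_, fun i => Over.OverMorphism.ext (hc i)⟩
  refine Groth.Agent.Sga3B.Par.EtGlue.hom_ext (fun i => (g i).left) hs fun i => ?_
  rw [← Category.assoc, hc i, Over.w, Over.w]

theorem hom_ext_cov {W Y : Over S} {ι : Type u} {V : ι → Over S} (g : ∀ i, V i ⟶ W)
    [∀ i, IsOpenImmersion (g i).left] (hs : ∀ w : W.left, ∃ i, w ∈ Set.range (g i).left)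
    {a b : W ⟶ Y} (h : ∀ i, g i ≫ a = g i ≫ b) : a = b :=
  Over.OverMorphism.ext (Groth.Agent.Sga3B.Par.EtGlue.hom_ext (fun i => (g i).left) hs
    fun i => congrArg (fun m => m.left) (h i))

/-- An open subscheme of `X` over `S`. -/
noncomputable abbrev opn (X : Over S) (V : X.left.Opens) : Over S := Over.mk (V.ι ≫ X.hom)

/-- The inclusion of an open subscheme. -/
noncomputable def opι (X : Over S) (V : X.left.Opens) : opn X V ⟶ X := Over.homMk V.ι rfl

/-- The inclusion of an open subscheme in a bigger one. -/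
noncomputable def opLE (X : Over S) {V V' : X.left.Opens} (h : V ≤ V') : opn X V ⟶ opn X V' :=
  Over.homMk (X.left.homOfLE h) (by simp)

theorem opι_left (X : Over S) (V : X.left.Opens) : (opι X V).left = V.ι := rfl

instance (X : Over S) (V : X.left.Opens) : IsOpenImmersion (opι X V).left :=
  inferInstanceAs (IsOpenImmersion V.ι)

instance (X : Over S) (V : X.left.Opens) : Mono (opι X V) := by
  have : Mono (opι X V).left := inferInstanceAs (Mono V.ι)
  exact Over.mono_of_mono_left _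

@[reassoc (attr := simp)]
theorem opLE_opι (X : Over S) {V V' : X.left.Opens} (h : V ≤ V') : opLE X h ≫ opι X V' = opι X V :=
  Over.OverMorphism.ext (X.left.homOfLE_ι h)

theorem exists_opn_lift (X : Over S) (V : X.left.Opens) {Z : Over S} (z : Z ⟶ X)
    (hz : ∀ x, z.left x ∈ V) : ∃ z' : Z ⟶ opn X V, z' ≫ opι X V = z := by
  have hr : Set.range z.left ⊆ Set.range V.ι := by
    rw [Scheme.Opens.range_ι]
    rintro _ ⟨x, rfl⟩
    exact hz x
  have hf : IsOpenImmersion.lift V.ι z.left hr ≫ V.ι = z.left := IsOpenImmersion.lift_fac _ _ _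
  refine ⟨Over.homMk (IsOpenImmersion.lift V.ι z.left hr) ?_, Over.OverMorphism.ext hf⟩
  change IsOpenImmersion.lift V.ι z.left hr ≫ V.ι ≫ X.hom = _
  rw [← Category.assoc, hf, Over.w]

theorem exists_inf (X : Over S) {V V' : X.left.Opens} {Z : Over S} (a : Z ⟶ opn X V)
    (b : Z ⟶ opn X V') (h : a ≫ opι X V = b ≫ opι X V') :
    ∃ c : Z ⟶ opn X (V ⊓ V'), c ≫ opLE X inf_le_left = a ∧ c ≫ opLE X inf_le_right = b := by
  obtain ⟨c, hc⟩ := exists_opn_lift X (V ⊓ V') (a ≫ opι X V) (fun x => by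
    refine ⟨?_, ?_⟩
    · exact (a.left x).2
    · rw [h]
      exact (b.left x).2)
  refine ⟨c, ?_, ?_⟩
  · rw [← cancel_mono (opι X V), Category.assoc, opLE_opι, hc]
  · rw [← cancel_mono (opι X V'), Category.assoc, opLE_opι, hc, h]

theorem isPullback_whiskerRight {U X : Over S} (j : U ⟶ X) (T : Over S) :
    IsPullback (j ▷ T).left (fst U T).left (fst X T).left j.left := by
  refine IsPullback.of_right (h₁₂ := (snd X T).left) (h₂₂ := X.hom) (v₁₃ := T.hom) ?_
    (congrArg (fun m => m.left) (whiskerRight_fst j T)) (IsPullback.of_hasPullback X.hom T.hom).flip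
  have h1 : (j ▷ T).left ≫ (snd X T).left = (snd U T).left :=
    congrArg (fun m => m.left) (whiskerRight_snd j T)
  rw [h1, Over.w]
  exact (IsPullback.of_hasPullback U.hom T.hom).flip

theorem isPullback_whiskerLeft {U X : Over S} (j : U ⟶ X) (T : Over S) :
    IsPullback (T ◁ j).left (snd T U).left (snd T X).left j.left := by
  refine IsPullback.of_right (h₁₂ := (fst T X).left) (h₂₂ := X.hom) (v₁₃ := T.hom) ?_
    (congrArg (fun m => m.left) (whiskerLeft_snd T j)) (IsPullback.of_hasPullback T.hom X.hom)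
  have h1 : (T ◁ j).left ≫ (fst T X).left = (fst T U).left :=
    congrArg (fun m => m.left) (whiskerLeft_fst T j)
  rw [h1, Over.w]
  exact IsPullback.of_hasPullback T.hom U.hom

/-- The product with an open immersion. -/
instance isOpenImmersion_whiskerRight {U X : Over S} (j : U ⟶ X) [IsOpenImmersion j.left] (T : Over S) :
    IsOpenImmersion (j ▷ T).left :=
  MorphismProperty.of_isPullback (P := @IsOpenImmersion) (isPullback_whiskerRight j T).flip inferInstance

/-- The product with an open immersion. -/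
instance isOpenImmersion_whiskerLeft {U X : Over S} (j : U ⟶ X) [IsOpenImmersion j.left] (T : Over S) :
    IsOpenImmersion (T ◁ j).left :=
  MorphismProperty.of_isPullback (P := @IsOpenImmersion) (isPullback_whiskerLeft j T).flip inferInstance

theorem mem_range_of_isPullback {P X Y Z : Scheme.{u}} {f : P ⟶ X} {g : P ⟶ Y} {f' : X ⟶ Z} {g' : Y ⟶ Z}
    (h : IsPullback f g f' g') {x : X} (hx : f' x ∈ Set.range g') : x ∈ Set.range f := by
  obtain ⟨y, hy⟩ := hx
  obtain ⟨z, hz, -⟩ := Scheme.Pullback.exists_preimage_pullback x y hy.symm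
  refine ⟨h.isoPullback.inv z, ?_⟩
  rw [← Scheme.Hom.comp_apply, IsPullback.isoPullback_inv_fst]
  exact hz

theorem surj_whiskerRight {X : Over S} {ι : Type u} {U : ι → Over S} (j : ∀ i, U i ⟶ X)
    (hs : ∀ w : X.left, ∃ i, w ∈ Set.range (j i).left) (T : Over S) (w : (X ⊗ T).left) :
    ∃ i, w ∈ Set.range (j i ▷ T).left := by
  obtain ⟨i, hi⟩ := hs ((fst X T).left w)
  exact ⟨i, mem_range_of_isPullback (isPullback_whiskerRight (j i) T) hi⟩

theorem surj_whiskerLeft {X : Over S} {ι : Type u} {U : ι → Over S} (j : ∀ i, U i ⟶ X)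
    (hs : ∀ w : X.left, ∃ i, w ∈ Set.range (j i).left) (T : Over S) (w : (T ⊗ X).left) :
    ∃ i, w ∈ Set.range (T ◁ j i).left := by
  obtain ⟨i, hi⟩ := hs ((snd T X).left w)
  exact ⟨i, mem_range_of_isPullback (isPullback_whiskerLeft (j i) T) hi⟩

end Over

section Fn

variable {A : Type u} [CommRing A] (D : Dat A)

theorem exists_glue_B {W : Over (Spec (CommRingCat.of A))} {ι : Type u}
    {V : ι → Over (Spec (CommRingCat.of A))} (g : ∀ i, V i ⟶ W)
    [∀ i, IsOpenImmersion (g i).left] (hs : ∀ w : W.left, ∃ i, w ∈ Set.range (g i).left)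
    (x : ∀ i, B D (V i)) (hx : ∀ (i j : ι) (Z : Over (Spec (CommRingCat.of A))) (a : Z ⟶ V i)
      (b : Z ⟶ V j), a ≫ g i = b ≫ g j → Bm D a (x i) = Bm D b (x j)) :
    ∃ c : B D W, ∀ i, Bm D (g i) c = x i := by
  have hP := fun i => isPullback_map_left D.M (g i)
  have hop : ∀ i, IsOpenImmersion (rmap D.M (g i)).left := fun i =>
    MorphismProperty.of_isPullback (P := @IsOpenImmersion) (hP i).flip inferInstance
  refine exists_glue_fn (fun i => (rmap D.M (g i)).left) ?_ x ?_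
  · intro p
    obtain ⟨i, hi⟩ := hs (inc D.M W p)
    exact ⟨i, mem_range_of_isPullback (hP i) hi⟩
  · intro i j Z a b hab
    let Z' : Over (Spec (CommRingCat.of A)) := Over.mk (a ≫ (red D.M (V i)).hom ≫ cl D.M)
    have hw : ∀ i, (rmap D.M (g i)).left ≫ (red D.M W).hom = (red D.M (V i)).hom := fun i => rmap_hom _ _
    let a' : Z' ⟶ V i := Over.homMk (a ≫ inc D.M (V i)) (by
      rw [Category.assoc, inc_w]
      rfl)
    let b' : Z' ⟶ V j := Over.homMk (b ≫ inc D.M (V j)) (by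
      have h0 : b ≫ (red D.M (V j)).hom = a ≫ (red D.M (V i)).hom := by
        rw [← hw j, ← hw i, ← Category.assoc, ← hab, Category.assoc]
      change _ = a ≫ (red D.M (V i)).hom ≫ cl D.M
      rw [Category.assoc, inc_w, ← Category.assoc, h0, Category.assoc])
    have h1 : a' ≫ g i = b' ≫ g j := by
      apply Over.OverMorphism.ext
      change (a ≫ inc D.M (V i)) ≫ (g i).left = (b ≫ inc D.M (V j)) ≫ (g j).left
      rw [Category.assoc, Category.assoc, ← rmap_inc, ← rmap_inc, ← Category.assoc, hab, Category.assoc]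
    have h2 := hx i j Z' a' b' h1
    let s : Z ⟶ (red D.M Z').left := pullback.lift (𝟙 Z) (a ≫ (red D.M (V i)).hom) (by
      rw [Category.id_comp, Category.assoc]
      rfl)
    have hs1 : s ≫ inc D.M Z' = 𝟙 Z := pullback.lift_fst _ _ _
    have e1 : s ≫ (rmap D.M a').left = a := by
      rw [← cancel_mono (inc D.M (V i)), Category.assoc, rmap_inc, ← Category.assoc, hs1, Category.id_comp]
      rfl
    have e2 : s ≫ (rmap D.M b').left = b := by
      rw [← cancel_mono (inc D.M (V j)), Category.assoc, rmap_inc, ← Category.assoc, hs1, Category.id_comp]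
      rfl
    have h3 := congrArg s.appTop h2
    have h4 : ∀ (k : ι) (c' : Z' ⟶ V k) (y : B D (V k)), s.appTop (Bm D c' y) = (s ≫ (rmap D.M c').left).appTop y :=
      fun k c' y => rfl
    rw [h4, h4, e1, e2] at h3
    exact h3

end Fn

end K384.Cov
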