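import Groth.Agent.GIT.K384.Fam
import Groth.Agent.S0039
import Groth.Agent.S5742

/-!
# Abelian schemes over complete local rings
-/

set_option autoImplicit false
universe u

open CategoryTheory CategoryTheory.Limits MonoidalCategory CartesianMonoidalCategory MonObj
open AlgebraicGeometry Opposite TopologicalSpace
open K384.Setup K384.Princ K384.Asm K384.Fam

namespace K384.Cpl

variable {A : Type u} [CommRing A]

/-- Lifting of group structures from `A/J` to `A/J'` if `𝔪 J ≤ J' ≤ J`. -/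
theorem level_succ [IsLocalRing A] [IsNoetherianRing A] (X : Over (Spec (CommRingCat.of A)))
    [Smooth X.hom] [IsProper X.hom] [GeometricallyIntegral X.hom]
    (e : 𝟙_ (Over (Spec (CommRingCat.of A))) ⟶ X) (J J' : Ideal A) (hJ : J ≠ ⊤) (hJJ : J' ≤ J)
    (hM : IsLocalRing.maximalIdeal A * J ≤ J') (H : Nonempty (GrpObj (Red.bc (cl J) X))) :
    Nonempty (GrpObj (Red.bc (cl J') X)) := by
  have hJ1 : J' ≠ ⊤ := fun h => hJ (top_le_iff.1 (h ▸ hJJ))
  have : Nontrivial (A ⧸ J') := Ideal.Quotient.nontrivial_iff.2 hJ1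
  have : IsLocalRing (A ⧸ J') := IsLocalRing.of_surjective' (Ideal.Quotient.mk J') Ideal.Quotient.mk_surjective
  let I : Ideal (A ⧸ J') := J.map (Ideal.Quotient.mk J')
  have hl : ∀ a ∈ J, ((Ideal.Quotient.mk I).comp (Ideal.Quotient.mk J')) a = 0 := by
    intro a ha
    rw [RingHom.comp_apply, Ideal.Quotient.eq_zero_iff_mem]
    exact Ideal.mem_map_of_mem _ ha
  have H1 : Nonempty (GrpObj (Red.bc (cl I ≫ cl J') X)) := by
    refine nonempty_grp_of_fac (Spec.map (CommRingCat.ofHom (Ideal.Quotient.lift _ _ hl))) _ _ ?_ X H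
    rw [← Spec.map_comp, ← Spec.map_comp, ← CommRingCat.ofHom_comp, ← CommRingCat.ofHom_comp,
      Ideal.Quotient.lift_comp_mk]
  have H2 : Nonempty (GrpObj (Red.bc (cl I) (red J' X))) := nonempty_grp_of_fac' _ _ _ rfl X H1
  have hI : I ≠ ⊤ := by
    intro h
    have h1 := congrArg (Ideal.comap (Ideal.Quotient.mk J')) h
    rw [Ideal.comap_map_of_surjective _ Ideal.Quotient.mk_surjective, Ideal.comap_top,
      ← RingHom.ker_eq_comap_bot, Ideal.mk_ker, sup_eq_left.2 hJJ] at h1
    exact hJ h1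
  have hMI : IsLocalRing.maximalIdeal (A ⧸ J') * I = ⊥ := by
    rw [← IsLocalRing.map_maximalIdeal_of_surjective (Ideal.Quotient.mk J') Ideal.Quotient.mk_surjective,
      ← Ideal.map_mul]
    exact (Ideal.map_mono hM).trans (by rw [Ideal.map_quotient_self]) |> le_bot_iff.1
  obtain ⟨g, -⟩ := exists_grpObj (red J' X) (secB e (cl J')) I hI (IsNoetherian.noetherian I) hMI H2
  exact ⟨g⟩

theorem level [IsLocalRing A] [IsNoetherianRing A] (X : Over (Spec (CommRingCat.of A)))
    [Smooth X.hom] [IsProper X.hom] [GeometricallyIntegral X.hom]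
    (e : 𝟙_ (Over (Spec (CommRingCat.of A))) ⟶ X)
    (H : Nonempty (GrpObj (Red.bc (cl (IsLocalRing.maximalIdeal A)) X))) (n : ℕ) :
    Nonempty (GrpObj (Red.bc (cl (IsLocalRing.maximalIdeal A ^ (n + 1))) X)) := by
  induction n with
  | zero =>
    have h1 : IsLocalRing.maximalIdeal A ^ (0 + 1) = IsLocalRing.maximalIdeal A := by
      rw [zero_add, pow_one]
    rw [h1]
    exact H
  | succ n ih =>
    refine level_succ X e _ _ ?_ (Ideal.pow_le_pow_right (Nat.le_succ _)) ?_ ih
    · exact fun h => (IsLocalRing.maximalIdeal.isMaximal A).ne_top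
        (top_le_iff.1 (h ▸ Ideal.pow_le_self n.succ_ne_zero))
    · rw [← pow_succ']

/-- The case of a complete local ring. -/
theorem complete_case [IsLocalRing A] [IsNoetherianRing A] [IsAdicComplete (IsLocalRing.maximalIdeal A) A]
    (X : Over (Spec (CommRingCat.of A)))
    [Smooth X.hom] [IsProper X.hom] [GeometricallyIntegral X.hom]
    (e : 𝟙_ (Over (Spec (CommRingCat.of A))) ⟶ X)
    (H : Nonempty (GrpObj (Red.bc (cl (IsLocalRing.maximalIdeal A)) X))) :
    Nonempty (GrpObj X) := by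
  let M := IsLocalRing.maximalIdeal A
  let T : ℕ → Over (Spec (CommRingCat.of A)) := fun n => Over.mk (cl (M ^ (n + 1)))
  have h1 : ∀ n, ∃ ψ, IsU e (T n) ψ := fun n => (nonempty_iff (T n) e).1 (level X e H n)
  choose ψ hψ using h1
  let t : ∀ n, T n ⟶ T (n + 1) := fun n => Over.homMk (CohB1.specQuotTrans M n)
    (CohB1.specQuotTrans_specQuot M n)
  have ht : ∀ n, ((X ⊗ X) ◁ t n) ≫ ψ (n + 1) = ψ n := by
    intro n
    refine ((hψ (n + 1)).comp_eq (hψ n) ((X ⊗ X) ◁ t n) (𝟙 _) ?_).trans (Category.id_comp _)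
    rw [whiskerLeft_fst, Category.id_comp]
  have i1 : IsProper (X ⊗ X).hom := inferInstanceAs (IsProper (pullback.fst X.hom X.hom ≫ X.hom))
  let g : ∀ n, CohB1.thick (X ⊗ X).hom M n ⟶ CohB1.thick X.hom M n := fun n => (toB (ψ n)).left
  have hg : ∀ n, g n ≫ CohB1.thickι X.hom M n = (ψ n).left := fun n => toB_fst (ψ n)
  obtain ⟨φ, hφ1, hφ2⟩ := Groth.Agent.S0039.result A M (X ⊗ X).hom X.hom g
    (fun n => Over.w (toB (ψ n))) (by
      intro n
      apply Groth.Agent.S0039.thick_ext
      · rw [Category.assoc, hg, Category.assoc, Groth.Agent.S0039.thickTrans_ι, hg]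
        exact congrArg (fun m => m.left) (ht n)
      · rw [Category.assoc, Category.assoc, Groth.Agent.S0039.thickTrans_toBase]
        have e1 : g (n + 1) ≫ CohB1.thickToBase X.hom M (n + 1) =
            CohB1.thickToBase (X ⊗ X).hom M (n + 1) := Over.w (toB (ψ (n + 1)))
        have e2 : g n ≫ CohB1.thickToBase X.hom M n =
            CohB1.thickToBase (X ⊗ X).hom M n := Over.w (toB (ψ n))
        rw [e1, reassoc_of% e2, Groth.Agent.S0039.thickTrans_toBase])
  let m : X ⊗ X ⟶ X := Over.homMk φ hφ1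
  have hm : ∀ n, fst (X ⊗ X) (T n) ≫ m = ψ n := by
    intro n
    apply Over.OverMorphism.ext
    exact (hφ2 n).trans (hg n)
  refine (exists_grp_of_unital X e ⟨m, ?_, ?_⟩).elim fun G _ => ⟨G⟩
  · apply Over.OverMorphism.ext
    refine Groth.Agent.S5742.result A M X.hom X.hom _ _ (Over.w _) (Over.w _) fun n => ?_
    have e1 : fst X (T n) ≫ l₁ e ≫ m = fst X (T n) ≫ 𝟙 X := by
      rw [← whiskerRight_fst_assoc, hm n, (hψ n).u1, Category.comp_id]
    exact congrArg (fun m => m.left) e1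
  · apply Over.OverMorphism.ext
    refine Groth.Agent.S5742.result A M X.hom X.hom _ _ (Over.w _) (Over.w _) fun n => ?_
    have e1 : fst X (T n) ≫ l₂ e ≫ m = fst X (T n) ≫ 𝟙 X := by
      rw [← whiskerRight_fst_assoc, hm n, (hψ n).u2, Category.comp_id]
    exact congrArg (fun m => m.left) e1

end K384.Cpl
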