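import Groth.Agent.GIT.K384.Tau
import Groth.Agent.Lift.K696.Perturb

/-!
# Differences of congruent morphisms in terms of a frame of derivations
-/

set_option autoImplicit false
universe u

open CategoryTheory CategoryTheory.Limits AlgebraicGeometry Opposite TopologicalSpace
open Groth.Agent.Sga67.Sec (resO resO_resO resO_self eqO_of_locally)
open K696.Base K384.Tau

namespace K384.Dif

/-- A frame of derivations of `Xb` over `Sb`. -/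
structure Frame {Xb Sb : Scheme.{u}} (pb : Xb ⟶ Sb) (ι : Type) [Fintype ι] where
  D : ι → ∀ U : Xb.Opens, Γ(Xb, U) →+ Γ(Xb, U)
  res : ∀ (j : ι) {U V : Xb.Opens} (h : V ≤ U) (a : Γ(Xb, U)),
    D j V (resO Xb h a) = resO Xb h (D j U a)
  leib : ∀ (j : ι) (U : Xb.Opens) (a b : Γ(Xb, U)), D j U (a * b) = a * D j U b + b * D j U a
  kill : ∀ (j : ι) (U : Xb.Opens) (c : Γ(Sb, ⊤)),
    D j U (ev pb (show U ≤ pb ⁻¹ᵁ ⊤ from le_top) c) = 0
  rep : ∀ U : Xb.Opens, IsAffineOpen U → ∀ (B : Type u) [CommRing B] (φ : Γ(Xb, U) →+* B)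
    (d : Γ(Xb, U) →+ B), (∀ a b, d (a * b) = φ a * d b + φ b * d a) →
    (∀ c : Γ(Sb, ⊤), d (ev pb (show U ≤ pb ⁻¹ᵁ ⊤ from le_top) c) = 0) →
    ∃! f : ι → B, ∀ a, d a = ∑ j, f j * φ (D j U a)

/-- The target: a scheme `X` over an affine scheme `S` with its reduction `Xb` over the closed subscheme `Sb`. -/
structure IsTgt {S Sb X Xb : Scheme.{u}} (iS : Sb ⟶ S) (iX : Xb ⟶ X) (p : X ⟶ S) (pb : Xb ⟶ Sb) :
    Prop where
  w : iX ≫ p = pb ≫ iS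
  aff : IsAffine S
  clS : IsClosedImmersion iS
  clX : IsClosedImmersion iX
  gen : ∀ V : X.Opens, IsAffineOpen V → ∀ a : Γ(X, V), iX.app V a = 0 →
    a ∈ Ideal.span {b : Γ(X, V) | ∃ c : Γ(S, ⊤), iS.appTop c = 0 ∧
      b = ev p (show V ≤ p ⁻¹ᵁ ⊤ from le_top) c}

variable {S Sb X Xb : Scheme.{u}} {iS : Sb ⟶ S} {iX : Xb ⟶ X} {p : X ⟶ S} {pb : Xb ⟶ Sb}
  {ι : Type} [Fintype ι]

theorem D_one (F : Frame pb ι) (j : ι) (U : Xb.Opens) : F.D j U 1 = 0 := by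
  have h := F.leib j U 1 1
  rw [mul_one, one_mul] at h
  exact left_eq_add.mp h

theorem iX_const (T : IsTgt iS iX p pb) (V : X.Opens) (c : Γ(S, ⊤)) :
    iX.app V (ev p (show V ≤ p ⁻¹ᵁ ⊤ from le_top) c) =
      ev pb (show iX ⁻¹ᵁ V ≤ pb ⁻¹ᵁ ⊤ from le_top) (iS.appTop c) := by
  have h1 : iX ⁻¹ᵁ V ≤ (iX ≫ p) ⁻¹ᵁ ⊤ := le_top
  have h2 : iX ⁻¹ᵁ V ≤ (pb ≫ iS) ⁻¹ᵁ ⊤ := le_top
  rw [← ev_eq_app iX _ le_rfl, ev_comp iX p _ le_rfl h1, ev_congr T.w h1 h2,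
    ← ev_comp pb iS (show (⊤ : Sb.Opens) ≤ iS ⁻¹ᵁ ⊤ from le_top) (show iX ⁻¹ᵁ V ≤ pb ⁻¹ᵁ ⊤ from le_top) h2]
  congr 1
  exact ev_eq_app iS c le_rfl

/-- Derivations on `X` over `S` along a map factoring through `Xb`, in terms of the frame. -/
theorem existsUnique_coeff (T : IsTgt iS iX p pb) (F : Frame pb ι) {V : X.Opens} (hV : IsAffineOpen V)
    (B : Type u) [CommRing B] (φ : Γ(Xb, iX ⁻¹ᵁ V) →+* B) (d : Γ(X, V) →+ B)
    (hd : ∀ a b, d (a * b) = φ (iX.app V a) * d b + φ (iX.app V b) * d a)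
    (hk : ∀ c : Γ(S, ⊤), d (ev p (show V ≤ p ⁻¹ᵁ ⊤ from le_top) c) = 0) :
    ∃! f : ι → B, ∀ a, d a = ∑ j, f j * φ (F.D j _ (iX.app V a)) := by
  have := T.clX
  have := T.clS
  have := T.aff
  have hsurj := Scheme.Hom.app_surjective iX V hV
  have hVb : IsAffineOpen (iX ⁻¹ᵁ V) := hV.preimage iX
  have h0 : ∀ a, iX.app V a = 0 → d a = 0 := by
    intro a ha
    have h1 := T.gen V hV a ha
    have h2 : iX.app V a = 0 ∧ d a = 0 := by
      refine Submodule.span_induction (p := fun a _ => iX.app V a = 0 ∧ d a = 0) ?_ ?_ ?_ ?_ h1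
      · rintro _ ⟨c, hc, rfl⟩
        refine ⟨?_, hk c⟩
        rw [iX_const T, hc, map_zero]
      · exact ⟨map_zero _, map_zero _⟩
      · rintro x y - - ⟨hx, hx'⟩ ⟨hy, hy'⟩
        exact ⟨by rw [map_add, hx, hy, add_zero], by rw [map_add, hx', hy', add_zero]⟩
      · rintro r x - ⟨hx, hx'⟩
        refine ⟨by rw [smul_eq_mul, map_mul, hx, mul_zero], ?_⟩
        rw [smul_eq_mul, hd, hx, hx', mul_zero, map_zero, zero_mul, add_zero]
    exact h2.2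
  have h0' : ∀ a b, iX.app V a = iX.app V b → d a = d b := by
    intro a b hab
    have := h0 (a - b) (by rw [map_sub, hab, sub_self])
    rw [map_sub] at this
    exact sub_eq_zero.1 this
  choose s hs using hsurj
  let db : Γ(Xb, iX ⁻¹ᵁ V) →+ B := AddMonoidHom.mk' (fun b => d (s b)) fun b b' => by
    rw [← map_add]
    apply h0'
    rw [map_add, hs, hs, hs]
  have hdb : ∀ a, db (iX.app V a) = d a := fun a => h0' _ _ (hs _)
  obtain ⟨f, hf, hu⟩ := F.rep _ hVb B φ db (by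
      intro a b
      obtain ⟨a, rfl⟩ : ∃ a', iX.app V a' = a := ⟨s a, hs a⟩
      obtain ⟨b, rfl⟩ : ∃ b', iX.app V b' = b := ⟨s b, hs b⟩
      rw [← map_mul, hdb, hdb, hdb, hd]) (by
      intro c
      obtain ⟨c, rfl⟩ : ∃ c', iS.appTop c' = c :=
        Scheme.Hom.app_surjective iS ⊤ (isAffineOpen_top S) c
      rw [← iX_const T, hdb, hk])
  refine ⟨f, fun a => ?_, fun g hg => hu g fun b => ?_⟩
  · rw [← hdb]; exact hf _
  · obtain ⟨b, rfl⟩ : ∃ b', iX.app V b' = b := ⟨s b, hs b⟩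
    rw [hdb]; exact hg b

section Comb

variable (F : Frame pb ι) {Z : Scheme.{u}} (qb : Z ⟶ Xb)

/-- The combination of the frame with coefficients `f`. -/
noncomputable def comb (iX : Xb ⟶ X) {V : X.Opens} {O : Z.Opens} (h : O ≤ qb ⁻¹ᵁ (iX ⁻¹ᵁ V)) (f : ι → Γ(Z, O)) :
    Γ(X, V) →+ Γ(Z, O) :=
  AddMonoidHom.mk' (fun a => ∑ j, f j * ev qb h (F.D j _ (iX.app V a))) fun a b => by
    rw [← Finset.sum_add_distrib]
    refine Finset.sum_congr rfl fun j _ => ?_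
    rw [map_add, map_add, map_add, mul_add]

theorem comb_apply {V : X.Opens} {O : Z.Opens} (h : O ≤ qb ⁻¹ᵁ (iX ⁻¹ᵁ V)) (f : ι → Γ(Z, O))
    (a : Γ(X, V)) : comb F qb iX h f a = ∑ j, f j * ev qb h (F.D j _ (iX.app V a)) := rfl

theorem comb_add {V : X.Opens} {O : Z.Opens} (h : O ≤ qb ⁻¹ᵁ (iX ⁻¹ᵁ V)) (f f' : ι → Γ(Z, O))
    (a : Γ(X, V)) : comb F qb iX h (f + f') a = comb F qb iX h f a + comb F qb iX h f' a := by
  simp only [comb_apply, Pi.add_apply, add_mul, Finset.sum_add_distrib]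

theorem comb_zero {V : X.Opens} {O : Z.Opens} (h : O ≤ qb ⁻¹ᵁ (iX ⁻¹ᵁ V))
    (a : Γ(X, V)) : comb F qb iX h (0 : ι → Γ(Z, O)) a = 0 := by
  simp only [comb_apply, Pi.zero_apply, zero_mul, Finset.sum_const_zero]

theorem comb_resO {V V' : X.Opens} {O O' : Z.Opens} (h : O ≤ qb ⁻¹ᵁ (iX ⁻¹ᵁ V))
    (h' : O' ≤ qb ⁻¹ᵁ (iX ⁻¹ᵁ V')) (hV : V' ≤ V) (hO : O' ≤ O) (f : ι → Γ(Z, O)) (a : Γ(X, V)) :
    resO Z hO (comb F qb iX h f a) =
      comb F qb iX h' (fun j => resO Z hO (f j)) (resO X hV a) := by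
  rw [comb_apply, comb_apply, map_sum]
  refine Finset.sum_congr rfl fun j _ => ?_
  rw [map_mul, res_ev, app_resO, F.res, ev_res qb (hO.trans h)]

theorem ev_comb {Z' : Scheme.{u}} (r : Z' ⟶ Z) {V : X.Opens} {O : Z.Opens} {O' : Z'.Opens}
    (h : O ≤ qb ⁻¹ᵁ (iX ⁻¹ᵁ V)) (hr : O' ≤ r ⁻¹ᵁ O)
    (h' : O' ≤ (r ≫ qb) ⁻¹ᵁ (iX ⁻¹ᵁ V)) (f : ι → Γ(Z, O)) (a : Γ(X, V)) :
    ev r hr (comb F qb iX h f a) = comb F (r ≫ qb) iX h' (fun j => ev r hr (f j)) a := by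
  rw [comb_apply, comb_apply, map_sum]
  refine Finset.sum_congr rfl fun j _ => ?_
  rw [map_mul, ev_comp r qb h hr h']

theorem comb_mul {V : X.Opens} {O : Z.Opens} (h : O ≤ qb ⁻¹ᵁ (iX ⁻¹ᵁ V)) (f : ι → Γ(Z, O))
    (a b : Γ(X, V)) : comb F qb iX h f (a * b) =
      ev qb h (iX.app V a) * comb F qb iX h f b + ev qb h (iX.app V b) * comb F qb iX h f a := by
  rw [comb_apply, comb_apply, comb_apply, Finset.mul_sum, Finset.mul_sum, ← Finset.sum_add_distrib]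
  refine Finset.sum_congr rfl fun j _ => ?_
  rw [map_mul, F.leib, map_add, map_mul, map_mul]
  ring

theorem comb_const (T : IsTgt iS iX p pb) {V : X.Opens} {O : Z.Opens} (h : O ≤ qb ⁻¹ᵁ (iX ⁻¹ᵁ V))
    (f : ι → Γ(Z, O)) (c : Γ(S, ⊤)) :
    comb F qb iX h f (ev p (show V ≤ p ⁻¹ᵁ ⊤ from le_top) c) = 0 := by
  rw [comb_apply]
  refine Finset.sum_eq_zero fun j _ => ?_
  rw [iX_const T, F.kill, map_zero, mul_zero]

theorem comb_one {V : X.Opens} {O : Z.Opens} (h : O ≤ qb ⁻¹ᵁ (iX ⁻¹ᵁ V)) (f : ι → Γ(Z, O)) :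
    comb F qb iX h f 1 = 0 := by
  rw [comb_apply]
  refine Finset.sum_eq_zero fun j _ => ?_
  rw [map_one, D_one, map_zero, mul_zero]

end Comb

end K384.Dif
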