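import Groth.Agent.GIT.K384.Asm
import Groth.Agent.S7786
import Mathlib.AlgebraicGeometry.Sites.Fpqc

/-!
# Families of unital multiplications

`IsU e T ψ`: `ψ : (X ⊗ X) ⊗ T ⟶ X` is a family of multiplications on `X` with unit `e` parametrized by
`T`. For `X` an abelian scheme such a family is unique, hence the families form a sheaf.
-/

set_option autoImplicit false
universe u

open CategoryTheory CategoryTheory.Limits MonoidalCategory CartesianMonoidalCategory MonObj
open AlgebraicGeometry Opposite TopologicalSpace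
open K384.Princ K384.Asm

namespace K384.Fam

/-- The two sections `x ↦ (x, e)`. -/
noncomputable abbrev l₁ {C : Type*} [Category C] [CartesianMonoidalCategory C] {X : C}
    (e : 𝟙_ C ⟶ X) : X ⟶ X ⊗ X := lift (𝟙 X) (toUnit X ≫ e)

/-- The section `x ↦ (e, x)`. -/
noncomputable abbrev l₂ {C : Type*} [Category C] [CartesianMonoidalCategory C] {X : C}
    (e : 𝟙_ C ⟶ X) : X ⟶ X ⊗ X := lift (toUnit X ≫ e) (𝟙 X)

/-- Families of unital multiplications. -/
structure IsU {C : Type*} [Category C] [CartesianMonoidalCategory C] {X : C} (e : 𝟙_ C ⟶ X) (T : C)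
    (ψ : (X ⊗ X) ⊗ T ⟶ X) : Prop where
  u1 : (l₁ e ▷ T) ≫ ψ = fst X T
  u2 : (l₂ e ▷ T) ≫ ψ = fst X T

section
variable {C : Type*} [Category C] [CartesianMonoidalCategory C] {X : C} {e : 𝟙_ C ⟶ X}

theorem IsU.comp {T T' : C} {ψ : (X ⊗ X) ⊗ T ⟶ X} (h : IsU e T ψ) (r : T' ⟶ T) :
    IsU e T' (((X ⊗ X) ◁ r) ≫ ψ) where
  u1 := by rw [← whisker_exchange_assoc, h.u1, whiskerLeft_fst]
  u2 := by rw [← whisker_exchange_assoc, h.u2, whiskerLeft_fst]

end

variable {S : Scheme.{u}} {X : Over S}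

/-- The morphism of base changes attached to a family. -/
noncomputable def toB {Y T : Over S} (ψ : Y ⊗ T ⟶ X) :
    (Over.pullback T.hom).obj Y ⟶ (Over.pullback T.hom).obj X :=
  Over.homMk (pullback.lift ψ.left (pullback.snd Y.hom T.hom) (by
    rw [← pullback.condition]
    exact Over.w ψ)) (pullback.lift_snd _ _ _)

theorem toB_fst {Y T : Over S} (ψ : Y ⊗ T ⟶ X) :
    (toB ψ).left ≫ pullback.fst X.hom T.hom = ψ.left := pullback.lift_fst _ _ _

theorem toB_injective {Y T : Over S} {ψ ψ' : Y ⊗ T ⟶ X} (h : toB ψ = toB ψ') : ψ = ψ' := by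
  apply Over.OverMorphism.ext
  rw [← toB_fst ψ, ← toB_fst ψ', h]

theorem toB_surjective {Y T : Over S} (φ : (Over.pullback T.hom).obj Y ⟶ (Over.pullback T.hom).obj X) :
    ∃ ψ : Y ⊗ T ⟶ X, toB ψ = φ := by
  refine ⟨Over.homMk (φ.left ≫ pullback.fst X.hom T.hom) ?_, ?_⟩
  · have h1 : φ.left ≫ pullback.snd X.hom T.hom = pullback.snd Y.hom T.hom := Over.w φ
    change (φ.left ≫ pullback.fst X.hom T.hom) ≫ X.hom = pullback.fst Y.hom T.hom ≫ Y.hom
    rw [Category.assoc, pullback.condition, ← Category.assoc, h1, pullback.condition]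
  · apply Over.OverMorphism.ext
    apply pullback.hom_ext
    · exact toB_fst _
    · have h1 : φ.left ≫ pullback.snd X.hom T.hom = pullback.snd Y.hom T.hom := Over.w φ
      exact (pullback.lift_snd _ _ _).trans h1.symm

theorem toB_comp {Y Y' T : Over S} (l : Y' ⟶ Y) (ψ : Y ⊗ T ⟶ X) :
    toB ((l ▷ T) ≫ ψ) = (Over.pullback T.hom).map l ≫ toB ψ := by
  apply Over.OverMorphism.ext
  apply pullback.hom_ext
  · have h3 : ((Over.pullback T.hom).map l ≫ toB ψ).left ≫ pullback.fst X.hom T.hom =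
        ((Over.pullback T.hom).map l).left ≫ ψ.left := by
      rw [Over.comp_left, Category.assoc, toB_fst]
    rw [toB_fst, Over.comp_left, h3]
    rfl
  · have h1 : ((Over.pullback T.hom).map l ≫ toB ψ).left ≫ pullback.snd X.hom T.hom =
        pullback.snd Y'.hom T.hom := Over.w _
    have h2 : (toB ((l ▷ T) ≫ ψ)).left ≫ pullback.snd X.hom T.hom = pullback.snd Y'.hom T.hom :=
      Over.w _
    rw [h1, h2]

theorem toB_fst_eq (T : Over S) : toB (fst X T) = 𝟙 ((Over.pullback T.hom).obj X) := by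
  apply Over.OverMorphism.ext
  apply pullback.hom_ext
  · rw [toB_fst, Over.id_left, Category.id_comp]
    rfl
  · have h2 : (toB (fst X T)).left ≫ pullback.snd X.hom T.hom = pullback.snd X.hom T.hom :=
      Over.w _
    rw [h2, Over.id_left, Category.id_comp]

/-- Unital multiplications on base changes. -/
structure IsV (e : 𝟙_ (Over S) ⟶ X) {T : Scheme.{u}} (g : T ⟶ S)
    (φ : (Over.pullback g).obj (X ⊗ X) ⟶ (Over.pullback g).obj X) : Prop where
  v1 : (Over.pullback g).map (l₁ e) ≫ φ = 𝟙 _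
  v2 : (Over.pullback g).map (l₂ e) ≫ φ = 𝟙 _

variable {e : 𝟙_ (Over S) ⟶ X}

theorem isV_toB {T : Over S} {ψ : (X ⊗ X) ⊗ T ⟶ X} : IsV e T.hom (toB ψ) ↔ IsU e T ψ := by
  constructor
  · intro h
    exact ⟨toB_injective ((toB_comp _ _).trans (h.v1.trans (toB_fst_eq T).symm)),
      toB_injective ((toB_comp _ _).trans (h.v2.trans (toB_fst_eq T).symm))⟩
  · intro h
    exact ⟨by rw [← toB_comp, h.u1, toB_fst_eq], by rw [← toB_comp, h.u2, toB_fst_eq]⟩

theorem exists_isV {T : Scheme.{u}} (g : T ⟶ S) (e : 𝟙_ (Over S) ⟶ X)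
    (H : Nonempty (GrpObj (Red.bc g X))) : ∃ φ, IsV e g φ := by
  obtain ⟨G⟩ := H
  have hG : GrpObj ((Over.pullback g).obj X) := G
  refine ⟨(Over.pullback g).map (fst X X) * ((Over.pullback g).map (toUnit (X ⊗ X) ≫ e))⁻¹ *
    (Over.pullback g).map (snd X X), ?_, ?_⟩
  · rw [MonObj.comp_mul, MonObj.comp_mul, GrpObj.comp_inv]
    have e1 : (Over.pullback g).map (l₁ e) ≫ (Over.pullback g).map (fst X X) = 𝟙 _ := by
      rw [← Functor.map_comp, lift_fst, CategoryTheory.Functor.map_id]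
    have e2 : (Over.pullback g).map (l₁ e) ≫ (Over.pullback g).map (snd X X) =
        (Over.pullback g).map (toUnit X ≫ e) := by
      rw [← Functor.map_comp, lift_snd]
    have e3 : (Over.pullback g).map (l₁ e) ≫ (Over.pullback g).map (toUnit (X ⊗ X) ≫ e) =
        (Over.pullback g).map (toUnit X ≫ e) := by
      rw [← Functor.map_comp, ← Category.assoc]
      congr 2
      exact toUnit_unique _ _
    rw [e1, e2, e3, _root_.mul_assoc, inv_mul_cancel, _root_.mul_one]
  · rw [MonObj.comp_mul, MonObj.comp_mul, GrpObj.comp_inv]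
    have e1 : (Over.pullback g).map (l₂ e) ≫ (Over.pullback g).map (fst X X) =
        (Over.pullback g).map (toUnit X ≫ e) := by
      rw [← Functor.map_comp, lift_fst]
    have e2 : (Over.pullback g).map (l₂ e) ≫ (Over.pullback g).map (snd X X) = 𝟙 _ := by
      rw [← Functor.map_comp, lift_snd, CategoryTheory.Functor.map_id]
    have e3 : (Over.pullback g).map (l₂ e) ≫ (Over.pullback g).map (toUnit (X ⊗ X) ≫ e) =
        (Over.pullback g).map (toUnit X ≫ e) := by
      rw [← Functor.map_comp, ← Category.assoc]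
      congr 2
      exact toUnit_unique _ _
    rw [e1, e2, e3, mul_inv_cancel, _root_.one_mul]

instance smooth_bc {T : Scheme.{u}} (g : T ⟶ S) (X : Over S) [Smooth X.hom] :
    Smooth (Red.bc g X).hom := inferInstanceAs (Smooth (pullback.snd X.hom g))

instance proper_bc {T : Scheme.{u}} (g : T ⟶ S) (X : Over S) [IsProper X.hom] :
    IsProper (Red.bc g X).hom := inferInstanceAs (IsProper (pullback.snd X.hom g))

instance geomInt_bc {T : Scheme.{u}} (g : T ⟶ S) (X : Over S) [GeometricallyIntegral X.hom] :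
    GeometricallyIntegral (Red.bc g X).hom :=
  inferInstanceAs (GeometricallyIntegral (pullback.snd X.hom g))

section abelian

variable [Smooth X.hom] [IsProper X.hom] [GeometricallyIntegral X.hom]

theorem geomConn {X Y : Scheme.{u}} (f : X ⟶ Y) [GeometricallyIntegral f] :
    GeometricallyConnected f :=
  ⟨fun K _ y Z a b h => by
    have : IsIntegral Z := GeometricallyIntegral.geometrically_isIntegral (f := f) y a b h
    infer_instance⟩

/-- The base change of the section. -/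
noncomputable def secB (e : 𝟙_ (Over S) ⟶ X) {T : Scheme.{u}} (g : T ⟶ S) :
    𝟙_ (Over T) ⟶ Red.bc g X := Functor.LaxMonoidal.ε (Over.pullback g) ≫ (Over.pullback g).map e

theorem exists_grpObj_of_isV {T : Scheme.{u}} (g : T ⟶ S)
    {φ : (Over.pullback g).obj (X ⊗ X) ⟶ (Over.pullback g).obj X} (h : IsV e g φ) :
    ∃ G : GrpObj (Red.bc g X), G.one = secB e g ∧
      G.mul = Functor.LaxMonoidal.μ (Over.pullback g) X X ≫ φ := by
  have h1 : toUnit (Red.bc g X) ≫ secB e g = (Over.pullback g).map (toUnit X ≫ e) := by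
    rw [secB, ← Category.assoc, Functor.map_comp]
    congr 1
    exact Functor.Monoidal.toUnit_ε (F := Over.pullback g) X
  refine Groth.Agent.S7787.result (Red.bc g X) (secB e g)
    (Functor.LaxMonoidal.μ (Over.pullback g) X X ≫ φ) ?_ ?_
  · rw [h1, ← Category.assoc]
    refine Eq.trans ?_ h.v1
    congr 1
    refine Eq.trans ?_ (Functor.Monoidal.lift_μ (F := Over.pullback g) (𝟙 X) (toUnit X ≫ e))
    rw [CategoryTheory.Functor.map_id]
  · rw [h1, ← Category.assoc]
    refine Eq.trans ?_ h.v2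
    congr 1
    refine Eq.trans ?_ (Functor.Monoidal.lift_μ (F := Over.pullback g) (toUnit X ≫ e) (𝟙 X))
    rw [CategoryTheory.Functor.map_id]

theorem nonempty_grpObj_iff {T : Scheme.{u}} (g : T ⟶ S) (e : 𝟙_ (Over S) ⟶ X) :
    Nonempty (GrpObj (Red.bc g X)) ↔ ∃ φ, IsV e g φ := by
  refine ⟨exists_isV g e, ?_⟩
  rintro ⟨φ, h⟩
  obtain ⟨G, -⟩ := exists_grpObj_of_isV g h
  exact ⟨G⟩

/-- Uniqueness of the multiplication with given unit. -/
theorem IsV.ext {T : Scheme.{u}} {g : T ⟶ S}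
    {φ φ' : (Over.pullback g).obj (X ⊗ X) ⟶ (Over.pullback g).obj X} (h : IsV e g φ)
    (h' : IsV e g φ') : φ = φ' := by
  obtain ⟨G, hG1, hG2⟩ := exists_grpObj_of_isV g h
  obtain ⟨G', hG1', hG2'⟩ := exists_grpObj_of_isV g h'
  have := geomConn (Red.bc g X).hom
  have h1 : G = G' := Groth.Agent.S7786.result (Red.bc g X) G G' (hG1.trans hG1'.symm)
  have h2 : Functor.LaxMonoidal.μ (Over.pullback g) X X ≫ φ =
      Functor.LaxMonoidal.μ (Over.pullback g) X X ≫ φ' := by
    rw [← hG2, ← hG2', h1]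
  exact (cancel_epi _).1 h2

theorem nonempty_iff (T : Over S) (e : 𝟙_ (Over S) ⟶ X) :
    Nonempty (GrpObj (Red.bc T.hom X)) ↔ ∃ ψ, IsU e T ψ := by
  rw [nonempty_grpObj_iff T.hom e]
  constructor
  · rintro ⟨φ, h⟩
    obtain ⟨ψ, rfl⟩ := toB_surjective φ
    exact ⟨ψ, isV_toB.1 h⟩
  · rintro ⟨ψ, h⟩
    exact ⟨toB ψ, isV_toB.2 h⟩

theorem IsU.ext {T : Over S} {ψ ψ' : (X ⊗ X) ⊗ T ⟶ X} (h : IsU e T ψ) (h' : IsU e T ψ') : ψ = ψ' :=
  toB_injective ((isV_toB.2 h).ext (isV_toB.2 h'))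

/-- Families do not depend on the parameters. -/
theorem IsU.comp_eq {T T' Z : Over S} {ψ : (X ⊗ X) ⊗ T ⟶ X} {ψ' : (X ⊗ X) ⊗ T' ⟶ X}
    (h : IsU e T ψ) (h' : IsU e T' ψ') (a : Z ⟶ (X ⊗ X) ⊗ T) (b : Z ⟶ (X ⊗ X) ⊗ T')
    (hab : a ≫ fst _ _ = b ≫ fst _ _) : a ≫ ψ = b ≫ ψ' := by
  have h1 := (h.comp (a ≫ snd _ _)).ext (h'.comp (b ≫ snd _ _))
  have ha : a = lift (a ≫ fst _ _) (𝟙 Z) ≫ ((X ⊗ X) ◁ (a ≫ snd _ _)) := by
    apply CartesianMonoidalCategory.hom_ext
    · rw [Category.assoc, whiskerLeft_fst, lift_fst]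
    · rw [Category.assoc, whiskerLeft_snd, lift_snd_assoc, Category.id_comp]
  have hb : b = lift (b ≫ fst _ _) (𝟙 Z) ≫ ((X ⊗ X) ◁ (b ≫ snd _ _)) := by
    apply CartesianMonoidalCategory.hom_ext
    · rw [Category.assoc, whiskerLeft_fst, lift_fst]
    · rw [Category.assoc, whiskerLeft_snd, lift_snd_assoc, Category.id_comp]
  rw [ha, hb, Category.assoc, Category.assoc, h1, hab]

/-- Families glue over open coverings. -/
theorem exists_glue {T : Over S} {κ : Type u} {V : κ → Over S} (g : ∀ i, V i ⟶ T)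
    [∀ i, IsOpenImmersion (g i).left] (hs : ∀ w : T.left, ∃ i, w ∈ Set.range (g i).left)
    (H : ∀ i, ∃ ψ, IsU e (V i) ψ) : ∃ ψ, IsU e T ψ := by
  choose ψ hψ using H
  have hop : ∀ (Y : Over S) (i), IsOpenImmersion (Y ◁ g i).left := fun Y i =>
    MorphismProperty.of_isPullback (K384.Cov.isPullback_whiskerLeft (g i) Y).flip inferInstance
  obtain ⟨c, hc⟩ := K384.Cov.exists_glue (W := (X ⊗ X) ⊗ T) (V := fun i => (X ⊗ X) ⊗ V i)
    (fun i => (X ⊗ X) ◁ g i) (K384.Cov.surj_whiskerLeft g hs (X ⊗ X)) ψ (by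
      intro i j Z a b hab
      refine (hψ i).comp_eq (hψ j) a b ?_
      have := congrArg (fun m => m ≫ fst _ _) hab
      simpa only [Category.assoc, whiskerLeft_fst] using this)
  refine ⟨c, ?_, ?_⟩
  · refine K384.Cov.hom_ext_cov (fun i => X ◁ g i) (K384.Cov.surj_whiskerLeft g hs X) fun i => ?_
    rw [whisker_exchange_assoc, hc, (hψ i).u1, whiskerLeft_fst]
  · refine K384.Cov.hom_ext_cov (fun i => X ◁ g i) (K384.Cov.surj_whiskerLeft g hs X) fun i => ?_
    rw [whisker_exchange_assoc, hc, (hψ i).u2, whiskerLeft_fst]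

/-- Families descend along faithfully flat quasi-compact morphisms. -/
theorem exists_desc {T T' : Over S} (r : T' ⟶ T) [Flat r.left] [Surjective r.left] [QuasiCompact r.left]
    (H : ∃ ψ, IsU e T' ψ) : ∃ ψ, IsU e T ψ := by
  obtain ⟨ψ, hψ⟩ := H
  have hfl : ∀ Y : Over S, Flat (Y ◁ r).left := fun Y =>
    MorphismProperty.of_isPullback (K384.Cov.isPullback_whiskerLeft r Y).flip inferInstance
  have hsu : ∀ Y : Over S, Surjective (Y ◁ r).left := fun Y =>
    MorphismProperty.of_isPullback (K384.Cov.isPullback_whiskerLeft r Y).flip inferInstance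
  have hqc : ∀ Y : Over S, QuasiCompact (Y ◁ r).left := fun Y =>
    MorphismProperty.of_isPullback (K384.Cov.isPullback_whiskerLeft r Y).flip inferInstance
  have hepi : ∀ Y : Over S, Epi (Y ◁ r).left := fun Y => inferInstance
  have hcompat : ∀ {Z : Scheme.{u}} (z₁ z₂ : Z ⟶ ((X ⊗ X) ⊗ T').left),
      z₁ ≫ ((X ⊗ X) ◁ r).left = z₂ ≫ ((X ⊗ X) ◁ r).left → z₁ ≫ ψ.left = z₂ ≫ ψ.left := by
    intro Z z₁ z₂ hz
    have hw : z₂ ≫ ((X ⊗ X) ⊗ T').hom = z₁ ≫ ((X ⊗ X) ⊗ T').hom := by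
      rw [← Over.w ((X ⊗ X) ◁ r), ← Category.assoc, ← Category.assoc, hz]
    let Z' : Over S := Over.mk (z₁ ≫ ((X ⊗ X) ⊗ T').hom)
    let a : Z' ⟶ (X ⊗ X) ⊗ T' := Over.homMk z₁ rfl
    let b : Z' ⟶ (X ⊗ X) ⊗ T' := Over.homMk z₂ hw
    have hab : a ≫ ((X ⊗ X) ◁ r) = b ≫ ((X ⊗ X) ◁ r) := Over.OverMorphism.ext hz
    have h1 := hψ.comp_eq hψ a b (by
      have := congrArg (fun m => m ≫ fst _ _) hab
      simpa only [Category.assoc, whiskerLeft_fst] using this)
    exact congrArg (fun m => m.left) h1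
  let c := EffectiveEpi.desc ((X ⊗ X) ◁ r).left ψ.left (fun z₁ z₂ hz => hcompat z₁ z₂ hz)
  have hc : ((X ⊗ X) ◁ r).left ≫ c = ψ.left := EffectiveEpi.fac _ _ _
  let c' : (X ⊗ X) ⊗ T ⟶ X := Over.homMk c (by
    rw [← cancel_epi ((X ⊗ X) ◁ r).left, ← Category.assoc, hc, Over.w, Over.w])
  have hc' : ((X ⊗ X) ◁ r) ≫ c' = ψ := Over.OverMorphism.ext hc
  refine ⟨c', ?_, ?_⟩
  · apply Over.OverMorphism.ext
    rw [← cancel_epi (X ◁ r).left, ← Over.comp_left, ← Over.comp_left]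
    congr 1
    rw [whisker_exchange_assoc, hc', hψ.u1, whiskerLeft_fst]
  · apply Over.OverMorphism.ext
    rw [← cancel_epi (X ◁ r).left, ← Over.comp_left, ← Over.comp_left]
    congr 1
    rw [whisker_exchange_assoc, hc', hψ.u2, whiskerLeft_fst]

/-- Group structures on base changes descend along faithfully flat quasi-compact morphisms. -/
theorem nonempty_of_desc {T T' : Scheme.{u}} (r : T' ⟶ T) (g : T ⟶ S) [Flat r] [Surjective r]
    [QuasiCompact r] (e : 𝟙_ (Over S) ⟶ X) (H : Nonempty (GrpObj (Red.bc (r ≫ g) X))) :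
    Nonempty (GrpObj (Red.bc g X)) := by
  let T₁ : Over S := Over.mk (r ≫ g)
  let T₂ : Over S := Over.mk g
  let r' : T₁ ⟶ T₂ := Over.homMk r rfl
  have h1 : Flat r'.left := inferInstanceAs (Flat r)
  have h2 : Surjective r'.left := inferInstanceAs (Surjective r)
  have h3 : QuasiCompact r'.left := inferInstanceAs (QuasiCompact r)
  exact (nonempty_iff T₂ e).2 (exists_desc r' ((nonempty_iff T₁ e).1 H))

/-- Group structures on base changes glue. -/
theorem nonempty_of_glue {T : Scheme.{u}} (g : T ⟶ S) {κ : Type u} {V : κ → Scheme.{u}}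
    (j : ∀ i, V i ⟶ T) [∀ i, IsOpenImmersion (j i)] (hs : ∀ w : T, ∃ i, w ∈ Set.range (j i))
    (e : 𝟙_ (Over S) ⟶ X) (H : ∀ i, Nonempty (GrpObj (Red.bc (j i ≫ g) X))) :
    Nonempty (GrpObj (Red.bc g X)) := by
  let T₂ : Over S := Over.mk g
  let r' : ∀ i, Over.mk (j i ≫ g) ⟶ T₂ := fun i => Over.homMk (j i) rfl
  have h1 : ∀ i, IsOpenImmersion (r' i).left := fun i => inferInstanceAs (IsOpenImmersion (j i))
  exact (nonempty_iff T₂ e).2 (exists_glue r' hs
    (fun i => (nonempty_iff (Over.mk (j i ≫ g)) e).1 (H i)))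

end abelian

end K384.Fam
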