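import Groth.Agent.GIT.K384.FrameOf
import Groth.Agent.S1937
import Groth.Agent.PicF.K248.Basic
import Groth.Agent.PerfC.PullRestrict
import Groth.Agent.DeRhamSh.K853.Terms

/-!
# Smooth group schemes over a field have a frame of derivations
-/

set_option autoImplicit false
universe u

open CategoryTheory CategoryTheory.Limits MonoidalCategory CartesianMonoidalCategory MonObj
open AlgebraicGeometry Opposite TopologicalSpace
open Groth.Agent.Sga67.Sec Groth.Agent.Sga67.LocBasis
open K696.Base K384.Dif

namespace K384.FrameEx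

/-- The differentials of a smooth group scheme over a field are free. -/
theorem exists_iso_freeMod {K : Type u} [Field K] (G : Over (Spec (CommRingCat.of K))) [GrpObj G] [Smooth G.hom]
    [IsSeparated G.hom] : ∃ n : ℕ, Nonempty (Omega.sheaf G.hom ≅ FlatMod.freeMod G.left n) := by
  obtain ⟨⟨e⟩, -⟩ := Groth.Agent.S1937.result (Spec (CommRingCat.of K)) G
  have h1 := K853.Terms.isFinLocFree_omega G.hom
  have h2 := Groth.Agent.PerfC.PullRestrict.isFinLocFree_pullback η[G].left h1
  have hw : η[G].left ≫ G.hom = 𝟙 _ := Over.w η[G]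
  let i : (Scheme.Modules.pullback η[G].left).obj (Omega.sheaf G.hom) ≅ Omega.conormal η[G].left :=
    (Scheme.Modules.pullback η[G].left).mapIso e ≪≫
      (Scheme.Modules.pullbackComp η[G].left G.hom).app _ ≪≫
      (Scheme.Modules.pullbackCongr hw).app _ ≪≫ (Scheme.Modules.pullbackId _).app _
  let x₀ : Spec (CommRingCat.of K) := IsLocalRing.closedPoint K
  obtain ⟨U, n, hx, ⟨j⟩⟩ := h2 x₀
  refine ⟨n, ?_⟩
  obtain ⟨j'⟩ := K248.Basic.pull_free G.hom U (by
    rintro _ ⟨y, rfl⟩
    have : G.hom y = x₀ := Subsingleton.elim (α := PrimeSpectrum K) _ _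
    rw [this]
    exact hx) ((Scheme.Modules.restrictFunctor U.ι).mapIso i.symm ≪≫ j)
  exact ⟨e ≪≫ j'⟩

/-- A smooth separated group scheme over a field has a frame of derivations. -/
theorem exists_frame {K : Type u} [Field K] (G : Over (Spec (CommRingCat.of K))) [GrpObj G] [Smooth G.hom]
    [IsSeparated G.hom] : ∃ n : ℕ, Nonempty (Frame G.hom (Fin n)) := by
  obtain ⟨n, ⟨e⟩⟩ := exists_iso_freeMod G
  exact ⟨n, ⟨FrameOf.frame G.hom _ ((free_isLocBasis G.left n).of_iso e.symm) (isAffineOpen_top _)⟩⟩

end K384.FrameEx
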