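import Groth.Agent.GIT.K384.Dif
import Groth.Agent.CurvesB.OmegaDer
import Groth.Agent.Sga67.LocBasis

/-!
# Frames of derivations from global bases of the sheaf of differentials
-/

set_option autoImplicit false
set_option linter.unusedSectionVars false
universe u

open CategoryTheory CategoryTheory.Limits AlgebraicGeometry Opposite TopologicalSpace
open Groth.Agent.Sga67.Sec Groth.Agent.Sga67.LocBasis
open K696.Base K384.Dif
open Groth.Agent.CurvesB

namespace K384.FrameOf

variable {X Y : Scheme.{u}} (f : X ⟶ Y) [QuasiCompact (pullback.diagonal f)] {n : ℕ}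
  (ω : Fin n → Sec (Omega.sheaf f) ⊤) (hω : IsLocBasis ω)

/-- The universal derivation. -/
noncomputable def dd (W : X.Opens) : Γ(X, W) →+ Sec (Omega.sheaf f) W := OmegaDer.d f W

theorem dd_mul (W : X.Opens) (s t : Γ(X, W)) : dd f W (s * t) = s • dd f W t + t • dd f W s :=
  OmegaDer.d_mul f W s t

theorem res_dd {W W' : X.Opens} (h : W' ≤ W) (s : Γ(X, W)) :
    res (Omega.sheaf f) h (dd f W s) = dd f W' (resO X h s) := OmegaDer.d_res f h s

theorem dd_const (W : X.Opens) (c : Γ(Y, ⊤)) : dd f W (ev f (show W ≤ f ⁻¹ᵁ ⊤ from le_top) c) = 0 := by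
  have h1 : OmegaDer.p₂ f W (f.appLE ⊤ W le_top c) = OmegaDer.p₁ f W (f.appLE ⊤ W le_top c) :=
    congr($(OmegaDer.p₂_comp f (show W ≤ f ⁻¹ᵁ ⊤ from le_top)) c)
  have h2 := OmegaDer.d_eq f W (f.appLE ⊤ W le_top c) 0 (by rw [map_zero, h1, sub_self])
  exact h2.trans (map_zero _)

/-- The coefficients of the differential. -/
noncomputable def co (W : X.Opens) : Sec (Omega.sheaf f) W ≃ₗ[Γ(X, W)] (Fin n → Γ(X, W)) :=
  (LinearEquiv.ofBijective (comb ω (le_top : W ≤ ⊤)) (hω W le_top)).symm

theorem co_symm (W : X.Opens) (a : Fin n → Γ(X, W)) :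
    (co f ω hω W).symm a = ∑ i, a i • res _ le_top (ω i) := rfl

theorem sum_co (W : X.Opens) (s : Sec (Omega.sheaf f) W) :
    ∑ i, co f ω hω W s i • res _ le_top (ω i) = s := by
  rw [← co_symm f ω hω, LinearEquiv.symm_apply_apply]

theorem co_res {W W' : X.Opens} (h : W' ≤ W) (s : Sec (Omega.sheaf f) W) (j : Fin n) :
    co f ω hω W' (res _ h s) j = resO X h (co f ω hω W s j) := by
  have h1 : (co f ω hω W').symm (fun j => resO X h (co f ω hω W s j)) = res _ h s := by
    conv_rhs => rw [← sum_co f ω hω W s]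
    rw [co_symm, map_sum]
    refine Finset.sum_congr rfl fun i _ => ?_
    rw [res_smul, res_res]
  rw [← h1, LinearEquiv.apply_symm_apply]

include hω in
/-- The representability of derivations. -/
theorem rep_aux (hY : IsAffineOpen (⊤ : Y.Opens)) (U : X.Opens) (hU : IsAffineOpen U) (B : Type u) [CommRing B]
    (φ : Γ(X, U) →+* B) (δ : Γ(X, U) →+ B) (h1 : ∀ a b, δ (a * b) = φ a * δ b + φ b * δ a)
    (h2 : ∀ c : Γ(Y, ⊤), δ (ev f (show U ≤ f ⁻¹ᵁ ⊤ from le_top) c) = 0) :
    ∃! g : Fin n → B, ∀ a, δ a = ∑ j, g j * φ (co f ω hω U (dd f U a) j) := by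
  have e : U ≤ f ⁻¹ᵁ ⊤ := le_top
  let _ : Algebra Γ(Y, ⊤) Γ(X, U) := OmegaDer.algX f e
  let _ : Module Γ(Y, ⊤) Γ(Omega.sheaf f, U) := OmegaDer.modO f e
  have _ := OmegaDer.isScalarTower f e
  let _ : Algebra Γ(X, U) B := φ.toAlgebra
  let _ : Algebra Γ(Y, ⊤) B := (φ.comp (f.appLE ⊤ U e).hom).toAlgebra
  have _ : IsScalarTower Γ(Y, ⊤) Γ(X, U) B := IsScalarTower.of_algebraMap_eq fun _ => rfl
  let δ' : Derivation Γ(Y, ⊤) Γ(X, U) B :=
    { toFun := δ
      map_add' := map_add δ
      map_smul' := fun c a => by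
        rw [Algebra.smul_def, h1, Algebra.smul_def]
        have : δ (algebraMap Γ(Y, ⊤) Γ(X, U) c) = 0 := h2 c
        rw [this, mul_zero, add_zero]
        rfl
      map_one_eq_zero' := by
        have h3 : δ (1 * 1) = φ 1 * δ 1 + φ 1 * δ 1 := h1 1 1
        have h4 : φ 1 = 1 := φ.map_one
        rw [mul_one, h4, one_mul] at h3
        exact left_eq_add.mp h3
      leibniz' := fun a b => by
        change δ (a * b) = a • δ b + b • δ a
        rw [h1, Algebra.smul_def, Algebra.smul_def]
        rfl }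
  let L := LinearEquiv.ofBijective _ (OmegaDer.bijective_lift f e hY hU)
  have hL : ∀ a, L (KaehlerDifferential.D Γ(Y, ⊤) Γ(X, U) a) = OmegaDer.d f U a := by
    intro a
    change (OmegaDer.der f e).liftKaehlerDifferential _ = _
    rw [Derivation.liftKaehlerDifferential_comp_D, OmegaDer.der_apply]
  let ℓ : Γ(Omega.sheaf f, U) →ₗ[Γ(X, U)] B := δ'.liftKaehlerDifferential ∘ₗ L.symm.toLinearMap
  have hℓ : ∀ a, ℓ (OmegaDer.d f U a) = δ a := by
    intro a
    change δ'.liftKaehlerDifferential (L.symm _) = _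
    rw [← hL, LinearEquiv.symm_apply_apply, Derivation.liftKaehlerDifferential_comp_D]
    rfl
  have huni : ∀ ℓ' : Γ(Omega.sheaf f, U) →ₗ[Γ(X, U)] B, (∀ a, ℓ' (OmegaDer.d f U a) = δ a) → ℓ' = ℓ := by
    intro ℓ' h'
    have : ℓ' ∘ₗ L.toLinearMap = ℓ ∘ₗ L.toLinearMap := by
      apply Derivation.liftKaehlerDifferential_unique
      ext a
      exact (congrArg ℓ' (hL a)).trans ((h' a).trans ((hℓ a).symm.trans (congrArg ℓ (hL a)).symm))
    ext x
    obtain ⟨y, rfl⟩ := L.surjective x
    exact congr($this y)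
  refine ⟨fun j => ℓ (res (Omega.sheaf f) le_top (ω j)), fun a => ?_, fun g hg => ?_⟩
  · rw [← hℓ a]
    have h3 : OmegaDer.d f U a = ∑ i, co f ω hω U (dd f U a) i • res _ le_top (ω i) :=
      (sum_co f ω hω U (dd f U a)).symm
    rw [h3]
    refine (map_sum ℓ _ _).trans ?_
    refine Finset.sum_congr rfl fun i _ => ?_
    refine (ℓ.map_smul _ _).trans ?_
    rw [Algebra.smul_def, mul_comm]
    rfl
  · let ℓ₀ : (Fin n → Γ(X, U)) →ₗ[Γ(X, U)] B :=
      Fintype.linearCombination Γ(X, U) g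
    let ℓ' : Γ(Omega.sheaf f, U) →ₗ[Γ(X, U)] B := ℓ₀ ∘ₗ (co f ω hω U).toLinearMap
    have h3 := huni ℓ' (fun a => by
      rw [hg a]
      change Fintype.linearCombination Γ(X, U) g (co f ω hω U (dd f U a)) = _
      rw [Fintype.linearCombination_apply]
      refine Finset.sum_congr rfl fun i _ => ?_
      rw [Algebra.smul_def, mul_comm]
      rfl)
    funext j
    have h4 : co f ω hω U (res (Omega.sheaf f) le_top (ω j)) = Pi.single j 1 := by
      rw [← LinearEquiv.eq_symm_apply, co_symm, Finset.sum_eq_single j]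
      · rw [Pi.single_eq_same, one_smul]
      · intro i _ hi
        rw [Pi.single_eq_of_ne hi, zero_smul]
      · simp
    have h5 : ℓ (res (Omega.sheaf f) le_top (ω j)) = g j := by
      rw [← h3]
      change Fintype.linearCombination Γ(X, U) g (co f ω hω U (res (Omega.sheaf f) le_top (ω j))) = _
      rw [h4, Fintype.linearCombination_apply_single, one_smul]
    exact h5.symm

/-- The frame dual to a global basis of differentials. -/
noncomputable def frame (hY : IsAffineOpen (⊤ : Y.Opens)) : Frame f (Fin n) where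
  D j U := AddMonoidHom.mk' (fun a => co f ω hω U (dd f U a) j) fun a b => by
    rw [map_add, map_add, Pi.add_apply]
  res j U V h a := by
    change co f ω hω V (dd f V _) j = resO X h (co f ω hω U (dd f U a) j)
    rw [← res_dd, co_res]
  leib j U a b := by
    change co f ω hω U (dd f U (a * b)) j = a * co f ω hω U (dd f U b) j + b * co f ω hω U (dd f U a) j
    rw [dd_mul, map_add, map_smul, map_smul]
    rfl
  kill j U c := by
    change co f ω hω U (dd f U _) j = 0
    rw [dd_const, map_zero]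
    rfl
  rep U hU B _ φ δ h1 h2 := rep_aux f ω hω hY U hU B φ δ h1 h2

end K384.FrameOf
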