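import Groth.Agent.GIT.K384.Cpl
import Groth.Agent.SGA1.K150.IndOpen
import Groth.Agent.SGA1.K150.CplAlgClosed

/-!
# Abelian schemes near a point of the base
-/

set_option autoImplicit false
universe u

open CategoryTheory CategoryTheory.Limits MonoidalCategory CartesianMonoidalCategory MonObj
open AlgebraicGeometry Opposite TopologicalSpace
open K384.Setup K384.Princ K384.Asm K384.Fam K384.Cpl
open Groth.Agent.Sga1.SectionSpread

namespace K384.Loc

variable {A : Type u} [CommRing A]

/-- The scheme `Spec B` over `Spec A`. -/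
noncomputable abbrev tt (A B : Type u) [CommRing A] [CommRing B] [Algebra A B] :
    Over (Spec (CommRingCat.of A)) := Over.mk (str A B)

/-- The morphism of spectra over `Spec A`. -/
noncomputable def rr {B B' : Type u} [CommRing B] [CommRing B'] [Algebra A B] [Algebra A B']
    (φ : B →ₐ[A] B') : tt A B' ⟶ tt A B := Over.homMk (sp φ) (sp_str φ)

theorem whisker_left_rr (Y : Over (Spec (CommRingCat.of A))) {B B' : Type u} [CommRing B] [CommRing B']
    [Algebra A B] [Algebra A B'] (φ : B →ₐ[A] B') : (Y ◁ rr φ).left = bcMap Y.hom φ := by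
  apply pullback.hom_ext
  · exact (congrArg (fun m => m.left) (whiskerLeft_fst Y (rr φ))).trans (bcMap_fst Y.hom φ).symm
  · exact (congrArg (fun m => m.left) (whiskerLeft_snd Y (rr φ))).trans (bcMap_snd Y.hom φ).symm

/-- Spreading out a family of multiplications. -/
theorem exists_spread (X : Over (Spec (CommRingCat.of A))) [Smooth X.hom] [IsProper X.hom]
    (e : 𝟙_ (Over (Spec (CommRingCat.of A))) ⟶ X) (C : Type u) [CommRing C] [Algebra A C]
    (hC : K150.IndOpen.IndOpen A C) (H : ∃ ψ, IsU e (tt A C) ψ) :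
    ∃ (B : Type u) (_ : CommRing B) (_ : Algebra A B) (_ : IsOpenImmersion (str A B))
      (_ : B →ₐ[A] C), ∃ ψ, IsU e (tt A B) ψ := by
  obtain ⟨ψ, hψ⟩ := H
  have i1 : QuasiCompact (X ⊗ X).hom := inferInstanceAs (QuasiCompact (pullback.fst X.hom X.hom ≫ X.hom))
  have i2 : QuasiSeparated (X ⊗ X).hom := inferInstanceAs (QuasiSeparated (pullback.fst X.hom X.hom ≫ X.hom))
  obtain ⟨B, _, _, _, χ, τ, hτ, hχ⟩ := K150.IndOpen.exists_open (X ⊗ X).hom (X ⊗ X).hom C hC X.hom
    ψ.left (Over.w ψ)
  have := K150.IndOpen.finitePresentation_of_isOpenImmersion A B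
  let ψB : (X ⊗ X) ⊗ tt A B ⟶ X := Over.homMk τ hτ
  have hψB : ((X ⊗ X) ◁ rr χ) ≫ ψB = ψ := by
    apply Over.OverMorphism.ext
    rw [Over.comp_left, whisker_left_rr]
    exact hχ
  have key : ∀ (l : X ⟶ X ⊗ X), (l ▷ tt A C) ≫ ψ = fst X _ →
      bcMap X.hom χ ≫ ((l ▷ tt A B) ≫ ψB).left = bcMap X.hom χ ≫ pullback.fst X.hom (str A B) := by
    intro l hl
    rw [bcMap_fst, ← whisker_left_rr, ← Over.comp_left, whisker_exchange_assoc, hψB, hl]
    rfl
  obtain ⟨B', _, _, _, ψ', χ', h1, h2⟩ := K150.IndOpen.exists_open_eq X.hom X.hom C hC X.hom B χ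
    ((l₁ e ▷ tt A B) ≫ ψB).left (pullback.fst X.hom (str A B)) (Over.w _) rfl (key _ hψ.u1)
  have := K150.IndOpen.finitePresentation_of_isOpenImmersion A B'
  obtain ⟨B'', _, _, _, ψ'', χ'', h3, h4⟩ := K150.IndOpen.exists_open_eq X.hom X.hom C hC X.hom B' χ'
    (bcMap X.hom ψ' ≫ ((l₂ e ▷ tt A B) ≫ ψB).left) (bcMap X.hom ψ' ≫ pullback.fst X.hom (str A B))
    (by
      rw [Category.assoc, Over.w]
      exact bcMap_fst_assoc _ _ _)
    (by rw [Category.assoc, bcMap_fst_assoc]) (by
      rw [bcMap_comp_assoc, bcMap_comp_assoc, h1]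
      exact key _ hψ.u2)
  refine ⟨B'', inferInstance, inferInstance, inferInstance, χ'', ((X ⊗ X) ◁ rr (ψ''.comp ψ')) ≫ ψB,
    ?_, ?_⟩
  · apply Over.OverMorphism.ext
    rw [← whisker_exchange_assoc, Over.comp_left, whisker_left_rr, ← bcMap_comp, Category.assoc, h2,
      bcMap_fst, bcMap_fst]
    rfl
  · apply Over.OverMorphism.ext
    rw [← whisker_exchange_assoc, Over.comp_left, whisker_left_rr, ← bcMap_comp, Category.assoc, h4,
      bcMap_fst, bcMap_fst]
    rfl

/-- If the fibre over a field valued point is an abelian variety, so is `X` over a neighbourhood. -/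
theorem local_main [IsNoetherianRing A] (X : Over (Spec (CommRingCat.of A))) [Smooth X.hom]
    [IsProper X.hom] [GeometricallyIntegral X.hom]
    (e : 𝟙_ (Over (Spec (CommRingCat.of A))) ⟶ X) (K : Type u) [Field K] (φ : A →+* K)
    (H : Nonempty (GrpObj (Red.bc (Spec.map (CommRingCat.ofHom φ)) X))) :
    ∃ (B : Type u) (_ : CommRing B) (_ : Algebra A B) (_ : IsOpenImmersion (str A B)),
      (∃ χ : B →+* K, χ.comp (algebraMap A B) = φ) ∧ Nonempty (GrpObj (Red.bc (str A B) X)) := by
  have hp : (RingHom.ker φ).IsPrime := RingHom.ker_isPrime φ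
  let p := RingHom.ker φ
  let C := Localization.AtPrime p
  have hφ : ∀ y : p.primeCompl, IsUnit (φ y) := by
    intro y
    rw [isUnit_iff_ne_zero]
    exact fun h => y.2 h
  let φC : C →+* K := IsLocalization.lift (M := p.primeCompl) hφ
  have hφC : φC.comp (algebraMap A C) = φ := IsLocalization.lift_comp _
  have hloc : IsLocalHom φC := by
    refine ⟨fun c hc => ?_⟩
    obtain ⟨x, s, rfl⟩ := IsLocalization.exists_mk'_eq p.primeCompl c
    refine (IsLocalization.AtPrime.isUnit_mk'_iff C p x s).2 fun h => hc.ne_zero ?_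
    have h1 : φC (algebraMap A C x) = φ x := RingHom.congr_fun hφC x
    have h3 : IsLocalization.mk' C x s * algebraMap A C s = algebraMap A C x :=
      IsLocalization.mk'_spec _ _ _
    have h4 := congrArg φC h3
    rw [map_mul, h1, show φ x = 0 from h] at h4
    refine (mul_eq_zero.1 h4).resolve_right ?_
    have h5 : φC (algebraMap A C s) = φ s := RingHom.congr_fun hφC _
    rw [h5]
    exact (hφ s).ne_zero
  let κ := IsLocalRing.ResidueField C
  let φκ : κ →+* K := IsLocalRing.ResidueField.lift φC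
  have hφκ : φκ.comp (IsLocalRing.residue C) = φC := IsLocalRing.ResidueField.lift_comp_residue φC
  -- descent to the residue field
  let g : Spec (CommRingCat.of κ) ⟶ Spec (CommRingCat.of A) :=
    Spec.map (CommRingCat.ofHom ((IsLocalRing.residue C).comp (algebraMap A C)))
  have Ha : Nonempty (GrpObj (Red.bc g X)) := by
    have i1 : Flat (Spec.map (CommRingCat.ofHom φκ)) := by
      rw [HasRingHomProperty.Spec_iff (P := @Flat)]
      exact RingHom.Flat.of_isField (Field.toIsField κ) φκ
    have i2 : Surjective (Spec.map (CommRingCat.ofHom φκ)) := by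
      refine ⟨fun x => ⟨IsLocalRing.closedPoint K, ?_⟩⟩
      exact Subsingleton.elim (α := PrimeSpectrum κ) _ _
    refine nonempty_of_desc (Spec.map (CommRingCat.ofHom φκ)) g e ?_
    have h1 : Spec.map (CommRingCat.ofHom φκ) ≫ g = Spec.map (CommRingCat.ofHom φ) := by
      rw [← Spec.map_comp, ← CommRingCat.ofHom_comp, ← RingHom.comp_assoc, hφκ, hφC]
    rw [h1]
    exact H
  -- the completion
  obtain ⟨D, _, _, _, _, _, _, hD⟩ := K150.CplAlgClosed.exists_complete_algClosed C
  have hD1 : IsLocalHom (algebraMap C D) := inferInstance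
  let gD : Spec (CommRingCat.of D) ⟶ Spec (CommRingCat.of A) := str C D ≫ str A C
  let rD : κ →+* D ⧸ IsLocalRing.maximalIdeal D :=
    Ideal.quotientMap (IsLocalRing.maximalIdeal D) (algebraMap C D)
      (IsLocalRing.maximalIdeal_comap (algebraMap C D)).ge
  have hrD : rD.comp (IsLocalRing.residue C) =
      (Ideal.Quotient.mk (IsLocalRing.maximalIdeal D)).comp (algebraMap C D) :=
    Ideal.quotientMap_comp_mk _
  have Hb : Nonempty (GrpObj (Red.bc (cl (IsLocalRing.maximalIdeal D)) (Red.bc gD X))) := by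
    refine nonempty_grp_of_fac' _ _ _ rfl X ?_
    refine nonempty_grp_of_fac (Spec.map (CommRingCat.ofHom rD)) g _ ?_ X Ha
    rw [← Category.assoc, ← Spec.map_comp, ← Spec.map_comp, ← Spec.map_comp,
      ← CommRingCat.ofHom_comp, ← CommRingCat.ofHom_comp, ← CommRingCat.ofHom_comp,
      ← RingHom.comp_assoc, hrD]
  have Hc : Nonempty (GrpObj (Red.bc gD X)) := complete_case (Red.bc gD X) (secB e gD) Hb
  have Hd : Nonempty (GrpObj (Red.bc (str A C) X)) := by
    have i1 : Flat (str C D) := by
      rw [HasRingHomProperty.Spec_iff (P := @Flat)]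
      exact RingHom.flat_algebraMap_iff.2 inferInstance
    have i2 : Surjective (str C D) := by
      refine ⟨?_⟩
      exact PrimeSpectrum.comap_surjective_of_faithfullyFlat
    exact nonempty_of_desc (str C D) (str A C) e Hc
  obtain ⟨B, i1, i2, i3, χ, hB⟩ := exists_spread X e C
    (K150.IndOpen.indOpen_of_isLocalization C p.primeCompl) ((nonempty_iff (tt A C) e).1 Hd)
  refine ⟨B, i1, i2, i3, ⟨φC.comp χ.toRingHom, ?_⟩, (nonempty_iff (tt A B) e).2 hB⟩
  rw [RingHom.comp_assoc]
  exact (congrArg (fun m => φC.comp m) χ.comp_algebraMap).trans hφC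

end K384.Loc
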