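import Groth.Agent.GIT.K384.Cls

/-!
# Lifting a unital multiplication
-/

set_option autoImplicit false
set_option linter.unusedSectionVars false
universe u

open CategoryTheory CategoryTheory.Limits MonoidalCategory CartesianMonoidalCategory
open AlgebraicGeometry Opposite TopologicalSpace
open K384.Setup K384.Calc K384.TensB K384.Cov K384.CechAlg K384.Dif K384.Cls

namespace K384.MulLift

variable {A : Type u} [CommRing A] {D : Dat A} {X : Over (Spec (CommRingCat.of A))}

theorem Bm_surj_inj {W : Over (Spec (CommRingCat.of A))} {ι : Type} (s : W ⟶ W ⊗ X)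
    (hs : s ≫ fst W X = 𝟙 W) (hB : Function.Surjective (Bm D (fst W X))) {g : ι → B D (W ⊗ X)}
    (hg : (fun j => Bm D s (g j)) = 0) : g = 0 := by
  funext j
  obtain ⟨c, hc⟩ := hB (g j)
  have h1 := congrFun hg j
  change Bm D s (g j) = 0 at h1
  rw [← hc, ← Bm_comp, hs, Bm_id] at h1
  rw [← hc, h1, map_zero]
  rfl

/-- Equal morphisms have zero difference. -/
theorem isD_eq_zero {ι : Type} [Fintype ι] {F : Frame (red D.M X).hom ι} {T : Over (Spec (CommRingCat.of A))}
    [Flat T.hom] {q q' : T ⟶ X} {f : ι → B D T} (hf : IsD F q q' f) (h : q = q') : f = 0 := by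
  subst h
  exact hf.unique (Cg.refl q) (isD_refl F q)

variable (φ : red D.I (X ⊗ X) ⟶ red D.I X) (hM : D.M.IsMaximal) [Smooth X.hom] [IsSeparated X.hom]
  [QuasiCompact X.hom] {ι : Type} [Fintype ι] (F : Frame (red D.M X).hom ι)
  (e : 𝟙_ (Over (Spec (CommRingCat.of A))) ⟶ X)
  (u1 : Lift φ (lift (𝟙 X) (toUnit X ≫ e)) (𝟙 X)) (u2 : Lift φ (lift (toUnit X ≫ e) (𝟙 X)) (𝟙 X))
  (hB : ∀ (W : Over (Spec (CommRingCat.of A))) [IsAffine W.left] [Flat W.hom],
    Function.Surjective (Bm D (fst W X)))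
  (hB' : Function.Surjective (Bm D (toUnit X)))
  (he : ∃ W : X.left.Opens, IsAffineOpen W ∧ ∀ s, e.left s ∈ W)

theorem affine_inf {V V' : X.left.Opens} (hV : IsAffineOpen V) (hV' : IsAffineOpen V') :
    IsAffineOpen (V ⊓ V') := by
  have h1 : terminal.from X.left = X.hom ≫ terminal.from (Spec (CommRingCat.of A)) :=
    Subsingleton.elim _ _
  have h2 : IsSeparated (terminal.from X.left) := by
    rw [h1]
    infer_instance
  exact hV.inf hV'

include hM F u2 hB' he in
/-- Lifts over `W ⊗ X` for `W` an affine open of `X`. -/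
theorem exists_local (W : X.left.Opens) (hW : IsAffineOpen W) :
    ∃ q : opn X W ⊗ X ⟶ X, Lift φ (opι X W ▷ X) q := by
  classical
  -- a finite affine cover
  obtain ⟨α, _, V, hV, hcov⟩ : ∃ (α : Type u) (_ : Fintype α) (V : α → X.left.Opens),
      (∀ a, IsAffineOpen (V a)) ∧ ∀ x : X.left, ∃ a, x ∈ V a := by
    have hX : CompactSpace X.left := QuasiCompact.compactSpace_of_compactSpace X.hom
    obtain ⟨I, hI, hI'⟩ := isCompact_iff_finite_and_eq_biUnion_affineOpens.mp
      (show IsCompact ((⊤ : X.left.Opens) : Set X.left) from isCompact_univ)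
    refine ⟨I, hI.fintype, fun i => i.1.1, fun i => i.1.2, fun x => ?_⟩
    have hx : x ∈ (⊤ : X.left.Opens) := trivial
    rw [hI'] at hx
    simp only [Opens.mem_iSup] at hx
    obtain ⟨i, hi, hx⟩ := hx
    exact ⟨⟨i, hi⟩, hx⟩
  have i0 : ∀ a, IsAffine (U0 V a).left := fun a => hV a
  have i1 : ∀ p, IsAffine (U1 V p).left := fun p => affine_inf (hV p.1) (hV p.2)
  have iW : ∀ W : {W : X.left.Opens // IsAffineOpen W}, IsAffine (opn X W.1).left := fun W => W.2
  choose c hc using fun W : {W : X.left.Opens // IsAffineOpen W} =>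
    exists_hasOb φ F V hM (opι X W.1)
  have hres : ∀ (W W' : {W : X.left.Opens // IsAffineOpen W}) (h : W.1 ≤ W'.1) (j : ι) (l : Fun D V),
      Bm D (opLE X h) (c W' j l) = c W j l := by
    intro W W' h j l
    have h1 := (hc W').comp (opLE X h)
    rw [opLE_opι] at h1
    exact congrFun (congrFun (h1.unique (hc W)) j) l
  have hcovι : ∀ x : X.left, ∃ W : {W : X.left.Opens // IsAffineOpen W}, x ∈ Set.range (opι X W.1).left := by
    intro x
    obtain ⟨a, ha⟩ := hcov x
    refine ⟨⟨V a, hV a⟩, ?_⟩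
    rw [opι_left, Scheme.Opens.range_ι]
    exact ha
  have hglue : ∀ (j : ι) (l : Fun D V), ∃ G : B D X, ∀ W : {W : X.left.Opens // IsAffineOpen W},
      Bm D (opι X W.1) G = c W j l := by
    intro j l
    refine exists_glue_B D (fun W : {W : X.left.Opens // IsAffineOpen W} => opι X W.1) hcovι
      (fun W => c W j l) ?_
    intro W W' Z a b hab
    obtain ⟨w, hw1, hw2⟩ := exists_inf X a b hab
    rw [← hw1, ← hw2, Bm_comp, Bm_comp,
      hres ⟨W.1 ⊓ W'.1, affine_inf W.2 W'.2⟩ W inf_le_left, hres ⟨W.1 ⊓ W'.1, affine_inf W.2 W'.2⟩ W' inf_le_right]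
  have hzero : ∀ W, c W = 0 := by
    intro W
    funext j l
    obtain ⟨G, hG⟩ := hglue j l
    obtain ⟨G₀, rfl⟩ := hB' G
    obtain ⟨W', hW', heW'⟩ := he
    obtain ⟨e', he'⟩ := exists_opn_lift X W' e heW'
    have iW' : IsAffine (opn X W').left := hW'
    have h1 : HasOb φ F V hM e (fun j l => Bm D e' (c ⟨W', hW'⟩ j l)) := by
      have := (hc ⟨W', hW'⟩).comp e'
      rw [he'] at this
      exact this
    have h2 : HasOb φ F V hM e 0 := by
      refine hasOb_zero (snd _ X) ?_
      have h3 := u2.comp (snd (𝟙_ (Over (Spec (CommRingCat.of A)))) X)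
      have h4 : snd (𝟙_ (Over (Spec (CommRingCat.of A)))) X ≫ lift (toUnit X ≫ e) (𝟙 X) = e ▷ X := by
        apply CartesianMonoidalCategory.hom_ext
        · rw [Category.assoc, lift_fst, whiskerRight_fst, ← Category.assoc]
          congr 1
          exact toUnit_unique _ _
        · rw [Category.assoc, lift_snd, whiskerRight_snd, Category.comp_id]
      rw [h4, Category.comp_id] at h3
      exact h3
    have h5 := congrFun (congrFun (h1.unique h2) j) l
    change Bm D e' (c ⟨W', hW'⟩ j l) = 0 at h5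
    rw [← hG ⟨W', hW'⟩, ← Bm_comp, ← Bm_comp] at h5
    have h6 : (e' ≫ opι X W') ≫ toUnit X = 𝟙 _ := toUnit_unique _ _
    have h7 : Bm D ((e' ≫ opι X W') ≫ toUnit X) G₀ = 0 := h5
    rw [h6, Bm_id] at h7
    rw [← hG W, h7, map_zero, map_zero]
    rfl
  have := hc ⟨W, hW⟩
  rw [hzero] at this
  have i2 : IsAffine (opn X W).left := hW
  exact this.exists_lift hcov

/-- The section `x ↦ (x, e)`. -/
noncomputable def sec (W : Over (Spec (CommRingCat.of A))) : W ⟶ W ⊗ X := lift (𝟙 W) (toUnit W ≫ e)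

theorem sec_fst (W : Over (Spec (CommRingCat.of A))) : sec e W ≫ fst W X = 𝟙 W := lift_fst _ _

theorem sec_whisker {W W' : Over (Spec (CommRingCat.of A))} (r : W' ⟶ W) :
    sec e W' ≫ (r ▷ X) = r ≫ sec e W := by
  apply CartesianMonoidalCategory.hom_ext
  · rw [Category.assoc, whiskerRight_fst, Category.assoc, sec_fst, ← Category.assoc, sec_fst,
      Category.id_comp, Category.comp_id]
  · rw [Category.assoc, whiskerRight_snd, Category.assoc, sec, sec, lift_snd, lift_snd, ← Category.assoc]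
    congr 1
    exact toUnit_unique _ _

include hM u1 u2 hB hB' he F in
/-- The lift of the multiplication. -/
theorem exists_mul : ∃ m : X ⊗ X ⟶ X, lift (𝟙 X) (toUnit X ≫ e) ≫ m = 𝟙 X ∧
    lift (toUnit X ≫ e) (𝟙 X) ≫ m = 𝟙 X := by
  have iW : ∀ W : {W : X.left.Opens // IsAffineOpen W}, IsAffine (opn X W.1).left := fun W => W.2
  choose q hq using fun W : {W : X.left.Opens // IsAffineOpen W} =>
    exists_local φ hM F e u2 hB' he W.1 W.2
  have hu1 : ∀ {W : Over (Spec (CommRingCat.of A))} (y : W ⟶ X), Lift φ (sec e W ≫ (y ▷ X)) y := by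
    intro W y
    have := u1.comp y
    rw [sec_whisker]
    rw [Category.comp_id] at this
    exact this
  have hcg : ∀ W : {W : X.left.Opens // IsAffineOpen W}, Cg D (opι X W.1) (sec e _ ≫ q W) := fun W =>
    (hu1 (opι X W.1)).cg ((hq W).comp _)
  choose f hf using fun W => exists_isD F (hcg W)
  choose q' hqc hq' using fun W : {W : X.left.Opens // IsAffineOpen W} =>
    exists_add F (q W) (fun j => Bm D (fst (opn X W.1) X) (f W j))
  have hL : ∀ W : {W : X.left.Opens // IsAffineOpen W}, Lift φ (opι X W.1 ▷ X) (q' W) := fun W =>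
    (hq W).of_cg (hqc W)
  have hsec : ∀ W : {W : X.left.Opens // IsAffineOpen W}, sec e _ ≫ q' W = opι X W.1 := by
    intro W
    have e1 := (hq' W).comp (hqc W) (sec e (opn X W.1))
    have e2 : (fun j => Bm D (sec e (opn X W.1)) (Bm D (fst (opn X W.1) X) (f W j))) = f W := by
      funext j
      rw [← Bm_comp, sec_fst, Bm_id]
    rw [e2] at e1
    have c1 : Cg D (sec e (opn X W.1) ≫ q' W) (sec e (opn X W.1) ≫ q W) := (hqc W).comp _
    have e3 := e1.trans c1 ((hf W).symm (hcg W))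
    rw [add_neg_cancel] at e3
    exact IsD.eq_of_zero (F := F) (c1.trans (hcg W).symm) e3
  -- agreement on overlaps
  have hov : ∀ W W' : {W : X.left.Opens // IsAffineOpen W},
      (opLE X (inf_le_left : W.1 ⊓ W'.1 ≤ W.1) ▷ X) ≫ q' W =
        (opLE X (inf_le_right : W.1 ⊓ W'.1 ≤ W'.1) ▷ X) ≫ q' W' := by
    intro W W'
    have i2 : IsAffine (opn X (W.1 ⊓ W'.1)).left := affine_inf W.2 W'.2
    have h1 : Lift φ (opι X (W.1 ⊓ W'.1) ▷ X) ((opLE X (inf_le_left : W.1 ⊓ W'.1 ≤ W.1) ▷ X) ≫ q' W) := by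
      have := (hL W).comp (opLE X (inf_le_left : W.1 ⊓ W'.1 ≤ W.1) ▷ X)
      rw [← comp_whiskerRight, opLE_opι] at this
      exact this
    have h2 : Lift φ (opι X (W.1 ⊓ W'.1) ▷ X) ((opLE X (inf_le_right : W.1 ⊓ W'.1 ≤ W'.1) ▷ X) ≫ q' W') := by
      have := (hL W').comp (opLE X (inf_le_right : W.1 ⊓ W'.1 ≤ W'.1) ▷ X)
      rw [← comp_whiskerRight, opLE_opι] at this
      exact this
    obtain ⟨g, hg⟩ := exists_isD F (h1.cg h2)
    have h3 := hg.comp (h1.cg h2) (sec e (opn X (W.1 ⊓ W'.1)))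
    have h4 : ∀ (W W' : {W : X.left.Opens // IsAffineOpen W}) (h : W.1 ≤ W'.1),
        sec e (opn X W.1) ≫ (opLE X h ▷ X) ≫ q' W' = opι X W.1 := by
      intro W W' h
      rw [← Category.assoc, sec_whisker, Category.assoc, hsec, opLE_opι]
    have h5 := h4 ⟨W.1 ⊓ W'.1, affine_inf W.2 W'.2⟩ W inf_le_left
    have h6 := h4 ⟨W.1 ⊓ W'.1, affine_inf W.2 W'.2⟩ W' inf_le_right
    have h7 : (fun j => Bm D (sec e (opn X (W.1 ⊓ W'.1))) (g j)) = 0 :=
      isD_eq_zero h3 (h5.trans h6.symm)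
    have h8 := Bm_surj_inj (sec e (opn X (W.1 ⊓ W'.1))) (sec_fst e _) (hB _) h7
    rw [h8] at hg
    exact IsD.eq_of_zero (F := F) (h1.cg h2) hg
  have hcovι : ∀ x : X.left, ∃ W : {W : X.left.Opens // IsAffineOpen W}, x ∈ Set.range (opι X W.1).left := by
    intro x
    obtain ⟨V, h1, h2, -⟩ := K384.Tau.exists_affine (show x ∈ (⊤ : X.left.Opens) from trivial)
    refine ⟨⟨V, h1⟩, ?_⟩
    rw [opι_left, Scheme.Opens.range_ι]
    exact h2
  have hsurj := surj_whiskerRight (fun W : {W : X.left.Opens // IsAffineOpen W} => opι X W.1) hcovι X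
  obtain ⟨m, hm⟩ := exists_glue (fun W : {W : X.left.Opens // IsAffineOpen W} => opι X W.1 ▷ X) hsurj q' (by
    intro W W' Z z z' hz
    have e1 : z ≫ snd _ X = z' ≫ snd _ X := by
      have := congrArg (fun m => m ≫ snd X X) hz
      simpa using this
    have e2 : (z ≫ fst _ X) ≫ opι X W.1 = (z' ≫ fst _ X) ≫ opι X W'.1 := by
      have := congrArg (fun m => m ≫ fst X X) hz
      simpa using this
    obtain ⟨w, hw1, hw2⟩ := exists_inf X _ _ e2
    have e3 : z = lift w (z ≫ snd _ X) ≫ (opLE X (inf_le_left : W.1 ⊓ W'.1 ≤ W.1) ▷ X) := by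
      apply CartesianMonoidalCategory.hom_ext
      · rw [Category.assoc, whiskerRight_fst, lift_fst_assoc]
        exact hw1.symm
      · simp
    have e4 : z' = lift w (z ≫ snd _ X) ≫ (opLE X (inf_le_right : W.1 ⊓ W'.1 ≤ W'.1) ▷ X) := by
      apply CartesianMonoidalCategory.hom_ext
      · rw [Category.assoc, whiskerRight_fst, lift_fst_assoc]
        exact hw2.symm
      · simp [e1]
    rw [e3, e4, Category.assoc, Category.assoc, hov W W'])
  have hr : lift (𝟙 X) (toUnit X ≫ e) ≫ m = 𝟙 X := by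
    refine hom_ext_cov (fun W : {W : X.left.Opens // IsAffineOpen W} => opι X W.1) hcovι fun W => ?_
    have e1 : opι X W.1 ≫ lift (𝟙 X) (toUnit X ≫ e) = sec e _ ≫ (opι X W.1 ▷ X) :=
      (sec_whisker e (opι X W.1)).symm
    rw [← Category.assoc, e1, Category.assoc, hm, hsec, Category.comp_id]
  refine ⟨m, hr, ?_⟩
  -- the left unit law
  have hLm : Lift φ (𝟙 (X ⊗ X)) m := by
    refine Lift.of_cover (fun W : {W : X.left.Opens // IsAffineOpen W} => opι X W.1 ▷ X) hsurj fun W => ?_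
    rw [hm, Category.comp_id]
    exact hL W
  have hn : Cg D (lift (toUnit X ≫ e) (𝟙 X) ≫ m) (𝟙 X) := by
    have h1 := hLm.comp (lift (toUnit X ≫ e) (𝟙 X))
    rw [Category.comp_id] at h1
    exact h1.cg u2
  obtain ⟨g, hg⟩ := exists_isD F hn
  have h1 := hg.comp hn e
  have h2 : e ≫ lift (toUnit X ≫ e) (𝟙 X) ≫ m = e ≫ 𝟙 X := by
    have h3 : e ≫ lift (toUnit X ≫ e) (𝟙 X) = e ≫ lift (𝟙 X) (toUnit X ≫ e) := by
      have h4 : e ≫ toUnit X = 𝟙 _ := toUnit_unique _ _
      apply CartesianMonoidalCategory.hom_ext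
      · rw [Category.assoc, Category.assoc, lift_fst, lift_fst, ← Category.assoc, h4, Category.id_comp,
          Category.comp_id]
      · rw [Category.assoc, Category.assoc, lift_snd, lift_snd, ← Category.assoc, h4, Category.id_comp,
          Category.comp_id]
    rw [← Category.assoc, h3, Category.assoc, hr]
  have h5 := isD_eq_zero h1 h2
  have h6 : g = 0 := by
    funext j
    obtain ⟨c, hc⟩ := hB' (g j)
    have h7 := congrFun h5 j
    change Bm D e (g j) = 0 at h7
    have h8 : e ≫ toUnit X = 𝟙 _ := toUnit_unique _ _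
    rw [← hc, ← Bm_comp, h8, Bm_id] at h7
    rw [← hc, h7, map_zero]
    rfl
  rw [h6] at hg
  exact IsD.eq_of_zero (F := F) hn hg

end K384.MulLift
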