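import Groth.Agent.GIT.K384.MulLift
import Groth.Agent.AbSch.K449.Push
import Groth.Agent.S7787
import Groth.Agent.SGA3x.K20.GeomIrr
import Groth.Agent.AbSch.K448.SmoothConn
import Groth.Agent.GIT.K384.FrameEx
import Groth.Prelude.Def_ActBC

/-!
# Abelian schemes over square zero extensions
-/

set_option autoImplicit false
universe u

open CategoryTheory CategoryTheory.Limits MonoidalCategory CartesianMonoidalCategory MonObj
open AlgebraicGeometry Opposite TopologicalSpace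
open K384.Setup K384.Calc K384.TensB K384.Cov K384.CechAlg K384.Dif K384.Cls

namespace K384.Princ

/-- Base change of a group structure along a factorization. -/
theorem nonempty_grp_of_fac {S S' S'' : Scheme.{u}} (f : S'' ⟶ S') (g : S' ⟶ S) (d : S'' ⟶ S)
    (h : f ≫ g = d) (X : Over S) (H : Nonempty (GrpObj (Red.bc g X))) :
    Nonempty (GrpObj (Red.bc d X)) := by
  obtain ⟨G⟩ := H
  exact ⟨GrpObj.ofIso (ActBC.bcCompIso f g X h)⟩

/-- `(x, y) ↦ x e⁻¹ y` is a multiplication with unit `e`. -/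
theorem exists_unital_of_grp {C : Type*} [Category C] [CartesianMonoidalCategory C] (X : C) [GrpObj X]
    (e : 𝟙_ C ⟶ X) : ∃ m : X ⊗ X ⟶ X, lift (𝟙 X) (toUnit X ≫ e) ≫ m = 𝟙 X ∧
    lift (toUnit X ≫ e) (𝟙 X) ≫ m = 𝟙 X := by
  refine ⟨fst X X * (toUnit _ ≫ e)⁻¹ * snd X X, ?_, ?_⟩
  · rw [MonObj.comp_mul, MonObj.comp_mul, GrpObj.comp_inv, lift_fst, lift_snd, ← Category.assoc]
    have : lift (𝟙 X) (toUnit X ≫ e) ≫ toUnit (X ⊗ X) = toUnit X := toUnit_unique _ _
    rw [this, _root_.mul_assoc, inv_mul_cancel, _root_.mul_one]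
  · rw [MonObj.comp_mul, MonObj.comp_mul, GrpObj.comp_inv, lift_fst, lift_snd, ← Category.assoc]
    have : lift (toUnit X ≫ e) (𝟙 X) ≫ toUnit (X ⊗ X) = toUnit X := toUnit_unique _ _
    rw [this, mul_inv_cancel, _root_.one_mul]

variable {A : Type u} [CommRing A] {D : Dat A} {X : Over (Spec (CommRingCat.of A))}

/-- The multiplication `x e⁻¹ y` of the reduction. -/
theorem exists_phi (J : Ideal A) (e : 𝟙_ (Over (Spec (CommRingCat.of A))) ⟶ X) [GrpObj (red J X)] :
    ∃ φ : red J (X ⊗ X) ⟶ red J X,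
      rmap J (𝟙 X) = rmap J (lift (𝟙 X) (toUnit X ≫ e)) ≫ φ ∧
      rmap J (𝟙 X) = rmap J (lift (toUnit X ≫ e) (𝟙 X)) ≫ φ := by
  refine ⟨rmap J (fst X X) * (rmap J (toUnit (X ⊗ X) ≫ e))⁻¹ * rmap J (snd X X), ?_, ?_⟩
  · rw [MonObj.comp_mul, MonObj.comp_mul, GrpObj.comp_inv]
    have e1 : rmap J (lift (𝟙 X) (toUnit X ≫ e)) ≫ rmap J (fst X X) = rmap J (𝟙 X) := by
      rw [← Functor.map_comp, lift_fst]
    have e2 : rmap J (lift (𝟙 X) (toUnit X ≫ e)) ≫ rmap J (snd X X) = rmap J (toUnit X ≫ e) := by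
      rw [← Functor.map_comp, lift_snd]
    have e3 : rmap J (lift (𝟙 X) (toUnit X ≫ e)) ≫ rmap J (toUnit (X ⊗ X) ≫ e) =
        rmap J (toUnit X ≫ e) := by
      rw [← Functor.map_comp, ← Category.assoc]
      congr 2
      exact toUnit_unique _ _
    rw [e1, e2, e3, _root_.mul_assoc, inv_mul_cancel, _root_.mul_one]
  · rw [MonObj.comp_mul, MonObj.comp_mul, GrpObj.comp_inv]
    have e1 : rmap J (lift (toUnit X ≫ e) (𝟙 X)) ≫ rmap J (fst X X) = rmap J (toUnit X ≫ e) := by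
      rw [← Functor.map_comp, lift_fst]
    have e2 : rmap J (lift (toUnit X ≫ e) (𝟙 X)) ≫ rmap J (snd X X) = rmap J (𝟙 X) := by
      rw [← Functor.map_comp, lift_snd]
    have e3 : rmap J (lift (toUnit X ≫ e) (𝟙 X)) ≫ rmap J (toUnit (X ⊗ X) ≫ e) =
        rmap J (toUnit X ≫ e) := by
      rw [← Functor.map_comp, ← Category.assoc]
      congr 2
      exact toUnit_unique _ _
    rw [e1, e2, e3, mul_inv_cancel, _root_.one_mul]

instance smooth_red (J : Ideal A) (X : Over (Spec (CommRingCat.of A))) [Smooth X.hom] :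
    Smooth (red J X).hom := inferInstanceAs (Smooth (pullback.snd X.hom (cl J)))

instance proper_red (J : Ideal A) (X : Over (Spec (CommRingCat.of A))) [IsProper X.hom] :
    IsProper (red J X).hom := inferInstanceAs (IsProper (pullback.snd X.hom (cl J)))

instance geomInt_red (J : Ideal A) (X : Over (Spec (CommRingCat.of A))) [GeometricallyIntegral X.hom] :
    GeometricallyIntegral (red J X).hom :=
  inferInstanceAs (GeometricallyIntegral (pullback.snd X.hom (cl J)))

theorem surj_toUnit [Smooth X.hom] [IsProper X.hom] [GeometricallyIntegral X.hom] :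
    Function.Surjective (Bm D (toUnit X)) := by
  have h1 : IsIso (red D.M X).hom.appTop := Groth.Agent.Grpsch.CubeData.isIso_app (red D.M X).hom ⊤
  have h2 : (rmap D.M (toUnit X)).left ≫ (red D.M (𝟙_ _)).hom = (red D.M X).hom := Over.w _
  intro b
  obtain ⟨c, hc⟩ := (ConcreteCategory.bijective_of_isIso (red D.M X).hom.appTop).2 b
  refine ⟨(red D.M (𝟙_ _)).hom.appTop c, ?_⟩
  rw [← hc, ← h2]
  rfl

theorem surj_fst (hM : D.M.IsMaximal) [Smooth X.hom] [IsProper X.hom] [GeometricallyIntegral X.hom]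
    (W : Over (Spec (CommRingCat.of A))) [IsAffine W.left] [Flat W.hom] :
    Function.Surjective (Bm D (fst W X)) := by
  have h1 : IsIso (red D.M X).hom.appTop := Groth.Agent.Grpsch.CubeData.isIso_app (red D.M X).hom ⊤
  have h2 : Function.Surjective (algebraMap (A ⧸ D.M) (B D X)) := by
    have e1 := (ConcreteCategory.bijective_of_isIso (red D.M X).hom.appTop).2
    have e2 := (ConcreteCategory.bijective_of_isIso (Scheme.ΓSpecIso (CommRingCat.of (A ⧸ D.M))).inv).2
    exact e1.comp e2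
  intro b
  obtain ⟨z, rfl⟩ := (bijective_mu D hM W X).2 b
  induction z using TensorProduct.induction_on with
  | zero => exact ⟨0, by rw [map_zero, map_zero]⟩
  | tmul x y =>
    obtain ⟨c, rfl⟩ := h2 y
    refine ⟨x * algebraMap _ _ c, ?_⟩
    rw [mu_tmul, map_mul, ← BmA_apply, ← BmA_apply, ← BmA_apply, AlgHom.commutes, AlgHom.commutes]
  | add x y hx hy =>
    obtain ⟨a, ha⟩ := hx
    obtain ⟨b, hb⟩ := hy
    exact ⟨a + b, by rw [map_add, ha, hb, map_add]⟩

/-- The case of an extension by a principal ideal. -/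
theorem principal [IsLocalRing A] (hM : D.M.IsMaximal) [Smooth X.hom] [IsProper X.hom]
    [GeometricallyIntegral X.hom] (e : 𝟙_ (Over (Spec (CommRingCat.of A))) ⟶ X)
    (H : Nonempty (GrpObj (Red.bc (cl D.I) X))) :
    ∃ m : X ⊗ X ⟶ X, lift (𝟙 X) (toUnit X ≫ e) ≫ m = 𝟙 X ∧
    lift (toUnit X ≫ e) (𝟙 X) ≫ m = 𝟙 X := by
  obtain ⟨hG⟩ := nonempty_grp_of_fac (Spec.map (CommRingCat.ofHom (Ideal.Quotient.factor D.I_le)))
    (cl D.I) (cl D.M) (by
      rw [← Spec.map_comp, ← CommRingCat.ofHom_comp, Ideal.Quotient.factor_comp_mk]) X H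
  obtain ⟨hG0⟩ := H
  obtain ⟨φ, u1, u2⟩ := exists_phi D.I e
  let _ : Field (A ⧸ D.M) := Ideal.Quotient.field D.M
  have hG' : GrpObj (red D.M X) := hG
  obtain ⟨n, ⟨F⟩⟩ := FrameEx.exists_frame (K := A ⧸ D.M) (red D.M X)
  refine MulLift.exists_mul φ hM F e u1 u2 (fun W _ _ => surj_fst hM W) surj_toUnit ?_
  obtain ⟨W, hW, hx, -⟩ := K384.Tau.exists_affine
    (show e.left (IsLocalRing.closedPoint A) ∈ (⊤ : X.left.Opens) from trivial)
  refine ⟨W, hW, fun s => ?_⟩
  have h1 : (IsLocalRing.closedPoint A) ∈ (e.left ⁻¹ᵁ W : Opens (PrimeSpectrum A)) := hx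
  have h2 := IsLocalRing.closed_point_mem_iff.1 h1
  have h3 : s ∈ (e.left ⁻¹ᵁ W : Opens (PrimeSpectrum A)) := by rw [h2]; trivial
  exact h3

end K384.Princ
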