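import Groth.Agent.GIT.K384.Dif

/-!
# The difference of two congruent morphisms
-/

set_option autoImplicit false
set_option linter.dupNamespace false
set_option linter.unusedVariables false
universe u

open CategoryTheory CategoryTheory.Limits AlgebraicGeometry Opposite TopologicalSpace
open Groth.Agent.Sga67.Sec (resO resO_resO resO_self eqO_of_locally)
open K696.Base K384.Tau K384.Dif

namespace K384.Rel

variable {S Sb X Xb : Scheme.{u}} {iS : Sb ⟶ S} {iX : Xb ⟶ X} {p : X ⟶ S} {pb : Xb ⟶ Sb}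
  {ι : Type} [Fintype ι] {Z W : Scheme.{u}} {i : Z ⟶ W} {t : Γ(W, ⊤)}

/-- Morphisms congruent modulo `t`. -/
structure Cong (t : Γ(W, ⊤)) (q q' : W ⟶ X) : Prop where
  pt : ∀ x, q x = q' x
  sec : ∀ (V : X.Opens) (O : W.Opens) (_ : IsAffineOpen O) (h₁ : O ≤ q ⁻¹ᵁ V) (h₂ : O ≤ q' ⁻¹ᵁ V)
    (a : Γ(X, V)), ∃ b : Γ(W, O), ev q h₁ a - ev q' h₂ a = resO W le_top t * b

theorem Cong.le {t : Γ(W, ⊤)} {q q' : W ⟶ X} (h : Cong t q q') {V : X.Opens} {O : W.Opens}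
    (h₁ : O ≤ q ⁻¹ᵁ V) : O ≤ q' ⁻¹ᵁ V := fun x hx => by
  change q' x ∈ V
  rw [← h.pt x]
  exact h₁ hx

theorem pre_le {q : W ⟶ X} {qb : Z ⟶ Xb} (hq : i ≫ q = qb ≫ iX) {V : X.Opens} {O : W.Opens}
    (h : O ≤ q ⁻¹ᵁ V) : i ⁻¹ᵁ O ≤ qb ⁻¹ᵁ (iX ⁻¹ᵁ V) := by
  rw [← Scheme.Hom.comp_preimage, ← hq, Scheme.Hom.comp_preimage]
  exact i.preimage_mono h

/-- compatibility of `q` with its reduction on functions -/
theorem i_ev {q : W ⟶ X} {qb : Z ⟶ Xb} (hq : i ≫ q = qb ≫ iX) {V : X.Opens} {O : W.Opens}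
    (h : O ≤ q ⁻¹ᵁ V) (a : Γ(X, V)) :
    i.app O (ev q h a) = ev qb (pre_le hq h) (iX.app V a) := by
  have e1 : i ⁻¹ᵁ O ≤ (i ≫ q) ⁻¹ᵁ V := i.preimage_mono h
  have e2 : i ⁻¹ᵁ O ≤ (qb ≫ iX) ⁻¹ᵁ V := by rw [← hq]; exact e1
  rw [← ev_eq_app i _ le_rfl, ev_comp i q h le_rfl e1, ev_congr hq e1 e2,
    ← ev_comp qb iX le_rfl (pre_le hq h) e2, ev_eq_app]

variable (H : TRed i t) (F : Frame pb ι) (q q' : W ⟶ X) (qb : Z ⟶ Xb) (hq : i ≫ q = qb ≫ iX)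

/-- The difference of `q` and `q'` from `V` to `O` has coefficients `f`. -/
def Rel (V : X.Opens) (O : W.Opens) (h₁ : O ≤ q ⁻¹ᵁ V) (h₂ : O ≤ q' ⁻¹ᵁ V)
    (f : ι → Γ(Z, i ⁻¹ᵁ O)) : Prop :=
  ∀ a : Γ(X, V), ev q h₁ a - ev q' h₂ a = H.tau O (comb F qb iX (pre_le hq h₁) f a)

/-- The difference of `q` and `q'` has coefficients `f`. -/
def IsDiff (f : ι → Γ(Z, ⊤)) : Prop :=
  ∀ (V : X.Opens) (O : W.Opens) (h₁ : O ≤ q ⁻¹ᵁ V) (h₂ : O ≤ q' ⁻¹ᵁ V),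
    Rel H F q q' qb hq V O h₁ h₂ (fun j => resO Z le_top (f j))

variable {q q' qb}

/-- Restriction of the relation. -/
theorem Rel.resR {V V' : X.Opens} {O O' : W.Opens} {h₁ : O ≤ q ⁻¹ᵁ V} {h₂ : O ≤ q' ⁻¹ᵁ V}
    {h₁' : O' ≤ q ⁻¹ᵁ V'} {h₂' : O' ≤ q' ⁻¹ᵁ V'} {f : ι → Γ(Z, i ⁻¹ᵁ O)} (hO : O' ≤ O) (hV : V ≤ V')
    (h : Rel H F q q' qb hq V O h₁ h₂ f) :
    Rel H F q q' qb hq V' O' h₁' h₂' (fun j => resO Z (i.preimage_mono hO) (f j)) := by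
  intro a
  have h3 := congrArg (resO W hO) (h (resO X hV a))
  rw [map_sub, res_ev, res_ev, ev_res q h₁' hV _, ev_res q' h₂' hV _, H.resO_tau,
    comb_resO F qb (pre_le hq h₁) ((i.preimage_mono hO).trans (pre_le hq h₁)) le_rfl] at h3
  rw [h3]
  congr 1
  rw [comb_apply, comb_apply]
  refine Finset.sum_congr rfl fun j _ => ?_
  rw [resO_resO, app_resO, F.res, ev_res qb (pre_le hq h₁')]

include H in
/-- Uniqueness of the coefficients. -/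
theorem Rel.uniq (T : IsTgt iS iX p pb) (hqp : q ≫ p = q' ≫ p) (hq' : i ≫ q' = qb ≫ iX)
    {V : X.Opens} (hV : IsAffineOpen V) {O : W.Opens} {h₁ : O ≤ q ⁻¹ᵁ V} {h₂ : O ≤ q' ⁻¹ᵁ V}
    {f f' : ι → Γ(Z, i ⁻¹ᵁ O)} (h : Rel H F q q' qb hq V O h₁ h₂ f)
    (h' : Rel H F q q' qb hq V O h₁ h₂ f') : f = f' := by
  obtain ⟨g, hg, hu⟩ := existsUnique_coeff T F hV Γ(Z, i ⁻¹ᵁ O) (ev qb (pre_le hq h₁))
    (comb F qb iX (pre_le hq h₁) f) (comb_mul F qb _ f) (comb_const F qb T _ f)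
  rw [hu f fun a => rfl, hu f' fun a => ?_]
  have h3 := (h' a).symm.trans (h a)
  exact (H.tau_injective _ h3).symm

/-- Existence of the coefficients. -/
theorem Rel.exist (T : IsTgt iS iX p pb) (hqp : q ≫ p = q' ≫ p) (hq' : i ≫ q' = qb ≫ iX)
    (hc : Cong t q q') {V : X.Opens} (hV : IsAffineOpen V) {O : W.Opens} (h₁ : O ≤ q ⁻¹ᵁ V)
    (h₂ : O ≤ q' ⁻¹ᵁ V) : ∃ f : ι → Γ(Z, i ⁻¹ᵁ O), Rel H F q q' qb hq V O h₁ h₂ f := by
  have hex : ∀ a : Γ(X, V), ∃ b : Γ(Z, i ⁻¹ᵁ O), H.tau O b = ev q h₁ a - ev q' h₂ a := by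
    intro a
    refine H.exists_eq_tau _ fun O' hO' hO'a => ?_
    obtain ⟨b, hb⟩ := hc.sec V O' hO'a (hO'.trans h₁) (hO'.trans h₂) a
    exact ⟨b, by rw [map_sub, res_ev, res_ev, hb]⟩
  choose d hd using hex
  let dd : Γ(X, V) →+ Γ(Z, i ⁻¹ᵁ O) := AddMonoidHom.mk' d fun a b => by
    apply H.tau_injective
    rw [map_add, hd, hd, hd, map_add, map_add]
    ring
  obtain ⟨f, hf, -⟩ := existsUnique_coeff T F hV Γ(Z, i ⁻¹ᵁ O) (ev qb (pre_le hq h₁)) dd (by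
      intro a b
      apply H.tau_injective
      have e1 : ev qb (pre_le hq h₁) (iX.app V a) = i.app O (ev q h₁ a) := (i_ev hq h₁ a).symm
      have e2 : ev qb (pre_le hq h₁) (iX.app V b) = i.app O (ev q' h₂ b) := (i_ev hq' h₂ b).symm
      rw [map_add, e1, e2, H.tau_mul, H.tau_mul]
      change H.tau O (d (a * b)) = _ * H.tau O (d b) + _ * H.tau O (d a)
      rw [hd, hd, hd, map_mul, map_mul]
      ring) (by
      intro c
      apply H.tau_injective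
      change H.tau O (d _) = _
      rw [hd, map_zero, sub_eq_zero]
      have e1 : O ≤ (q ≫ p) ⁻¹ᵁ ⊤ := le_top
      have e2 : O ≤ (q' ≫ p) ⁻¹ᵁ ⊤ := le_top
      rw [ev_comp q p _ h₁ e1, ev_comp q' p _ h₂ e2, ev_congr hqp])
  refine ⟨f, fun a => ?_⟩
  rw [← hd a]
  congr 1
  exact hf a

/-- Two coefficient systems of a global difference agree. -/
theorem IsDiff.uniq (T : IsTgt iS iX p pb) (hqp : q ≫ p = q' ≫ p) (hq' : i ≫ q' = qb ≫ iX)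
    {f f' : ι → Γ(Z, ⊤)} (hc : ∀ x, q x = q' x) (h : IsDiff H F q q' qb hq f)
    (h' : IsDiff H F q q' qb hq f') : f = f' := by
  funext j
  have e0 : (⊤ : Z.Opens) ≤ ⊤ := le_rfl
  rw [← resO_self (X := Z) e0 (f j), ← resO_self (X := Z) e0 (f' j)]
  refine eqO_of_locally fun z _ => ?_
  obtain ⟨V, hV, hz, -⟩ := exists_affine (show q (i z) ∈ (⊤ : X.Opens) from trivial)
  have h2 : q ⁻¹ᵁ V ≤ q' ⁻¹ᵁ V := fun x hx => by
    change q' x ∈ V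
    rw [← hc x]
    exact hx
  refine ⟨i ⁻¹ᵁ (q ⁻¹ᵁ V), le_top, hz, ?_⟩
  rw [resO_self, resO_self]
  exact congrFun (Rel.uniq H F hq T hqp hq' hV (h V (q ⁻¹ᵁ V) le_rfl h2) (h' V (q ⁻¹ᵁ V) le_rfl h2)) j

/-- Existence of the coefficients of the difference of congruent morphisms. -/
theorem IsDiff.exist (T : IsTgt iS iX p pb) (hqp : q ≫ p = q' ≫ p) (hq' : i ≫ q' = qb ≫ iX)
    (hc : Cong t q q') : ∃ f : ι → Γ(Z, ⊤), IsDiff H F q q' qb hq f := by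
  have hex := fun V : {V : X.Opens // IsAffineOpen V} =>
    Rel.exist H F hq T hqp hq' hc V.2 (O := q ⁻¹ᵁ V.1) le_rfl (hc.le le_rfl)
  choose f hf using hex
  have hcomp : ∀ (V V' : {V : X.Opens // IsAffineOpen V}) (h : V'.1 ≤ V.1) (j : ι),
      resO Z (i.preimage_mono (q.preimage_mono h)) (f V j) = f V' j := by
    intro V V' h j
    have e1 : Rel H F q q' qb hq V.1 (q ⁻¹ᵁ V'.1) (q.preimage_mono h) (hc.le (q.preimage_mono h))
        (fun j => resO Z (i.preimage_mono (q.preimage_mono h)) (f V j)) :=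
      (hf V).resR H F hq (q.preimage_mono h) le_rfl
    have e2 : Rel H F q q' qb hq V.1 (q ⁻¹ᵁ V'.1) (q.preimage_mono h) (hc.le (q.preimage_mono h))
        (fun j => resO Z (i.preimage_mono le_rfl) (f V' j)) :=
      (hf V').resR H F hq le_rfl h
    have e3 := congrFun (Rel.uniq H F hq T hqp hq' V.2 e1 e2) j
    rw [e3, resO_self]
  have hglue : ∀ j : ι, ∃ s : Γ(Z, ⊤), ∀ V : {V : X.Opens // IsAffineOpen V},
      resO Z le_top s = f V j := by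
    intro j
    refine K696.LHom.exists_glue_fn (X := Z) (W := ⊤)
      (fun V : {V : X.Opens // IsAffineOpen V} => i ⁻¹ᵁ (q ⁻¹ᵁ V.1)) (fun V => le_top)
      (fun z _ => ?_) (fun V => f V j) ?_
    · obtain ⟨V, hV, hz, -⟩ := exists_affine (show q (i z) ∈ (⊤ : X.Opens) from trivial)
      exact ⟨⟨V, hV⟩, hz⟩
    · intro V V' z hz hz'
      obtain ⟨V'', h1, h2, h3⟩ := exists_affine (U := V.1 ⊓ V'.1)
        (show q (i z) ∈ V.1 ⊓ V'.1 from ⟨hz, hz'⟩)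
      exact ⟨i ⁻¹ᵁ (q ⁻¹ᵁ V''), i.preimage_mono (q.preimage_mono (h3.trans inf_le_left)),
        i.preimage_mono (q.preimage_mono (h3.trans inf_le_right)), h2,
        (hcomp V ⟨V'', h1⟩ (h3.trans inf_le_left) j).trans
          (hcomp V' ⟨V'', h1⟩ (h3.trans inf_le_right) j).symm⟩
  choose s hs using hglue
  refine ⟨s, fun V O h₁ h₂ a => ?_⟩
  refine eqO_of_locally fun x hx => ?_
  obtain ⟨V', hV', hx', hVV'⟩ := exists_affine (show q x ∈ V from h₁ hx)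
  refine ⟨O ⊓ q ⁻¹ᵁ V', inf_le_left, ⟨hx, hx'⟩, ?_⟩
  have e1 : Rel H F q q' qb hq V (O ⊓ q ⁻¹ᵁ V') (inf_le_left.trans h₁) (inf_le_left.trans h₂)
      (fun j => resO Z (i.preimage_mono inf_le_right) (f ⟨V', hV'⟩ j)) :=
    (hf ⟨V', hV'⟩).resR H F hq inf_le_right hVV'
  have e2 := e1 a
  rw [map_sub, res_ev, res_ev, e2, H.resO_tau,
    comb_resO F qb (pre_le hq h₁) ((i.preimage_mono inf_le_left).trans (pre_le hq h₁)) le_rfl]
  congr 1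
  rw [comb_apply, comb_apply]
  refine Finset.sum_congr rfl fun j _ => ?_
  rw [← hs j ⟨V', hV'⟩, resO_resO, resO_resO, resO_self]

/-- A difference with zero coefficients. -/
theorem IsDiff.eq_of_zero (hc : ∀ x, q x = q' x) (h : IsDiff H F q q' qb hq 0) : q = q' := by
  refine hom_ext_ev hc fun V O h₁ h₂ a => ?_
  have h3 := h V O h₁ h₂ a
  have h4 : (fun j : ι => resO Z (le_top : i ⁻¹ᵁ O ≤ ⊤) ((0 : ι → Γ(Z, ⊤)) j)) = 0 := by
    funext j; exact map_zero _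
  rw [h4, comb_zero, map_zero] at h3
  exact sub_eq_zero.1 h3

theorem IsDiff.refl : IsDiff H F q q qb hq 0 := by
  intro V O h₁ h₂ a
  have h4 : (fun j : ι => resO Z (le_top : i ⁻¹ᵁ O ≤ ⊤) ((0 : ι → Γ(Z, ⊤)) j)) = 0 := by
    funext j; exact map_zero _
  rw [sub_self, h4, comb_zero, map_zero]

variable {q'' : W ⟶ X}

theorem IsDiff.add (hc : ∀ x, q x = q' x) (hq' : i ≫ q' = qb ≫ iX) {f f' : ι → Γ(Z, ⊤)}
    (h : IsDiff H F q q' qb hq f) (h' : IsDiff H F q' q'' qb hq' f') :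
    IsDiff H F q q'' qb hq (f + f') := by
  intro V O h₁ h₂ a
  have h3 : O ≤ q' ⁻¹ᵁ V := fun x hx => by
    change q' x ∈ V
    rw [← hc x]
    exact h₁ hx
  have e1 := h V O h₁ h3 a
  have e2 := h' V O h3 h₂ a
  have e3 : (fun j : ι => resO Z (le_top : i ⁻¹ᵁ O ≤ ⊤) ((f + f') j)) =
      (fun j => resO Z le_top (f j)) + fun j => resO Z le_top (f' j) := by
    funext j; exact map_add _ _ _
  rw [e3, comb_add, map_add, ← e1, ← e2]
  ring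

theorem IsDiff.neg (hc : ∀ x, q x = q' x) (hq' : i ≫ q' = qb ≫ iX) {f : ι → Γ(Z, ⊤)}
    (h : IsDiff H F q q' qb hq f) : IsDiff H F q' q qb hq' (-f) := by
  intro V O h₁ h₂ a
  have e1 := h V O h₂ h₁ a
  have e3 : (fun j : ι => resO Z (le_top : i ⁻¹ᵁ O ≤ ⊤) ((-f) j)) =
      - fun j => resO Z le_top (f j) := by
    funext j; exact map_neg _ _
  have e4 := comb_add F qb (pre_le hq' h₁) (fun j => resO Z le_top (f j))
    (- fun j => resO Z le_top (f j)) a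
  rw [add_neg_cancel, comb_zero] at e4
  have e5 := congrArg (H.tau O) e4
  rw [map_zero, map_add, ← e1] at e5
  rw [e3]
  linear_combination e5

/-- Pulling back a difference. -/
theorem IsDiff.comp {Z' W' : Scheme.{u}} {i' : Z' ⟶ W'} {t' : Γ(W', ⊤)} (H' : TRed i' t')
    (r : W' ⟶ W) (rb : Z' ⟶ Z) (w : i' ≫ r = rb ≫ i) (ht : r.appTop t = t')
    (hq2 : i' ≫ r ≫ q = (rb ≫ qb) ≫ iX) {f : ι → Γ(Z, ⊤)} (h : IsDiff H F q q' qb hq f)
    (hc : ∀ x, q x = q' x) :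
    IsDiff H' F (r ≫ q) (r ≫ q') (rb ≫ qb) hq2 (fun j => rb.appTop (f j)) := by
  intro V O h₁ h₂ a
  have h3 : q ⁻¹ᵁ V ≤ q' ⁻¹ᵁ V := fun x hx => by
    change q' x ∈ V
    rw [← hc x]
    exact hx
  have h4 : O ≤ r ⁻¹ᵁ (q ⁻¹ᵁ V) := h₁
  have e1 := congrArg (ev r h4) (h V (q ⁻¹ᵁ V) le_rfl h3 a)
  have h5 : i' ⁻¹ᵁ O ≤ rb ⁻¹ᵁ (i ⁻¹ᵁ (q ⁻¹ᵁ V)) := by
    rw [← Scheme.Hom.comp_preimage, ← w, Scheme.Hom.comp_preimage]
    exact i'.preimage_mono h4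
  rw [map_sub, ev_comp r q _ h4 h₁, ev_comp r q' _ h4 h₂, ev_tau H H' r rb w ht h4 h5,
    ev_comb F qb rb (pre_le hq le_rfl) h5 (pre_le hq2 h₁)] at e1
  have e2 : (fun j => ev rb h5 (resO Z le_top (f j))) =
      fun j => resO Z' (le_top : i' ⁻¹ᵁ O ≤ ⊤) (rb.appTop (f j)) := by
    funext j
    rw [ev_res rb (show i' ⁻¹ᵁ O ≤ rb ⁻¹ᵁ ⊤ from le_top) le_top h5, ev_eq]
    rfl
  rw [e1, e2]

end K384.Rel
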