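import Groth.Agent.GIT.K384.AddF
import Groth.Agent.CalgB.MilFlat
import Mathlib.RingTheory.Flat.EquationalCriterion
import Groth.Prelude.Def_Red

/-!
# Reductions of flat schemes over `Spec A` modulo ideals
-/

set_option autoImplicit false
universe u

open CategoryTheory CategoryTheory.Limits AlgebraicGeometry Opposite TopologicalSpace
open Groth.Agent.Sga67.Sec (resO resO_resO resO_self eqO_of_locally)
open K696.Base K384.Tau K384.Dif K384.Rel

namespace K384.Setup

variable {A : Type u} [CommRing A]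

/-- The closed subscheme `Spec A/J`. -/
noncomputable abbrev cl (J : Ideal A) : Spec (CommRingCat.of (A ⧸ J)) ⟶ Spec (CommRingCat.of A) :=
  Spec.map (CommRingCat.ofHom (Ideal.Quotient.mk J))

instance (J : Ideal A) : IsClosedImmersion (cl J) :=
  IsClosedImmersion.spec_of_surjective _ Ideal.Quotient.mk_surjective

/-- Constants. -/
noncomputable def cst (T : Over (Spec (CommRingCat.of A))) (U : T.left.Opens) : A →+* Γ(T.left, U) :=
  (ev T.hom (show U ≤ T.hom ⁻¹ᵁ ⊤ from le_top)).comp (Scheme.ΓSpecIso (CommRingCat.of A)).inv.hom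

theorem resO_cst (T : Over (Spec (CommRingCat.of A))) {U V : T.left.Opens} (h : V ≤ U) (a : A) :
    resO T.left h (cst T U a) = cst T V a := res_ev _ _ _ _

theorem ev_cst {T T' : Over (Spec (CommRingCat.of A))} (r : T' ⟶ T) {U : T.left.Opens}
    {V : T'.left.Opens} (h : V ≤ r.left ⁻¹ᵁ U) (a : A) : ev r.left h (cst T U a) = cst T' V a := by
  have e1 : V ≤ (r.left ≫ T.hom) ⁻¹ᵁ ⊤ := le_top
  refine (ev_comp r.left T.hom _ h e1 _).trans ?_
  exact ev_congr (Over.w r) e1 _ _

theorem appTop_cst {T T' : Over (Spec (CommRingCat.of A))} (r : T' ⟶ T) (a : A) :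
    r.left.appTop (cst T ⊤ a) = cst T' ⊤ a := by
  have := ev_cst r (show (⊤ : T'.left.Opens) ≤ r.left ⁻¹ᵁ ⊤ from le_rfl) a
  rw [ev_eq] at this
  exact (resO_self (X := T'.left) le_rfl _).symm.trans this

theorem flat_cst (T : Over (Spec (CommRingCat.of A))) [Flat T.hom] {U : T.left.Opens}
    (hU : IsAffineOpen U) : (cst T U).Flat := by
  have h1 : (T.hom.appLE ⊤ U le_top).hom.Flat := HasRingHomProperty.appLE (P := @Flat) T.hom inferInstance
      ⟨⊤, isAffineOpen_top _⟩ ⟨U, hU⟩ _
  exact RingHom.Flat.comp (RingHom.Flat.of_bijective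
    (ConcreteCategory.bijective_of_isIso (Scheme.ΓSpecIso (CommRingCat.of A)).inv)) h1

/-- The reduction modulo `J`. -/
noncomputable abbrev red (J : Ideal A) (T : Over (Spec (CommRingCat.of A))) :
    Over (Spec (CommRingCat.of (A ⧸ J))) := (Over.pullback (cl J)).obj T

/-- The closed immersion of the reduction. -/
noncomputable abbrev inc (J : Ideal A) (T : Over (Spec (CommRingCat.of A))) :
    (red J T).left ⟶ T.left := pullback.fst T.hom (cl J)

theorem inc_w (J : Ideal A) (T : Over (Spec (CommRingCat.of A))) :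
    inc J T ≫ T.hom = (red J T).hom ≫ cl J := pullback.condition

/-- The reduction of a morphism. -/
noncomputable abbrev rmap (J : Ideal A) {T T' : Over (Spec (CommRingCat.of A))} (r : T ⟶ T') :
    red J T ⟶ red J T' := (Over.pullback (cl J)).map r

theorem rmap_inc (J : Ideal A) {T T' : Over (Spec (CommRingCat.of A))} (r : T ⟶ T') :
    (rmap J r).left ≫ inc J T' = inc J T ≫ r.left := pullback.lift_fst _ _ _

theorem rmap_hom (J : Ideal A) {T T' : Over (Spec (CommRingCat.of A))} (r : T ⟶ T') :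
    (rmap J r).left ≫ (red J T').hom = (red J T).hom := pullback.lift_snd _ _ _

theorem rmap_ext (J : Ideal A) {T T' : Over (Spec (CommRingCat.of A))} {r r' : T ⟶ T'}
    (h : inc J T ≫ r.left = inc J T ≫ r'.left) : rmap J r = rmap J r' := by
  apply Over.OverMorphism.ext
  refine (cancel_mono (inc J T')).1 ?_
  rw [rmap_inc, rmap_inc, h]

theorem rmap_eq_iff (J : Ideal A) {T T' : Over (Spec (CommRingCat.of A))} {r r' : T ⟶ T'} :
    rmap J r = rmap J r' ↔ inc J T ≫ r.left = inc J T ≫ r'.left := by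
  refine ⟨fun h => ?_, rmap_ext J⟩
  rw [← rmap_inc, ← rmap_inc, h]

theorem inc_cst (J : Ideal A) (T : Over (Spec (CommRingCat.of A))) (U : T.left.Opens) {a : A}
    (ha : a ∈ J) : (inc J T).app U (cst T U a) = 0 := by
  have e1 : (inc J T) ⁻¹ᵁ U ≤ (inc J T ≫ T.hom) ⁻¹ᵁ ⊤ := le_top
  have e2 : (inc J T) ⁻¹ᵁ U ≤ ((red J T).hom ≫ cl J) ⁻¹ᵁ ⊤ := le_top
  rw [← ev_eq_app _ _ le_rfl]
  refine (ev_comp (inc J T) T.hom _ le_rfl e1 _).trans ?_
  rw [ev_congr (inc_w J T) e1 e2,
    ← ev_comp (red J T).hom (cl J) (show (⊤ : (Spec (CommRingCat.of (A ⧸ J))).Opens) ≤ (cl J) ⁻¹ᵁ ⊤ from le_top)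
      (show _ ≤ (red J T).hom ⁻¹ᵁ ⊤ from le_top) e2]
  have h1 := Scheme.ΓSpecIso_inv_naturality (CommRingCat.ofHom (Ideal.Quotient.mk J))
  have h2 := congrArg (fun m => m.hom a) h1
  have h3 : (cl J).app ⊤ ((Scheme.ΓSpecIso (CommRingCat.of A)).inv.hom a) = 0 := by
    refine h2.symm.trans ?_
    change (Scheme.ΓSpecIso (CommRingCat.of (A ⧸ J))).inv.hom (Ideal.Quotient.mk J a) = 0
    rw [Ideal.Quotient.eq_zero_iff_mem.2 ha, map_zero]
  have h4 : ev (cl J) (show (⊤ : (Spec (CommRingCat.of (A ⧸ J))).Opens) ≤ (cl J) ⁻¹ᵁ ⊤ from le_top)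
      ((Scheme.ΓSpecIso (CommRingCat.of A)).inv.hom a) = 0 := (ev_eq_app (cl J) _ le_rfl).trans h3
  exact (congrArg _ h4).trans (map_zero _)

/-- The kernel of the reduction modulo `J` over an affine open. -/
theorem inc_app_eq_zero_iff (J : Ideal A) (T : Over (Spec (CommRingCat.of A))) {U : T.left.Opens}
    (hU : IsAffineOpen U) (x : Γ(T.left, U)) :
    (inc J T).app U x = 0 ↔ x ∈ J.map (cst T U) := by
  constructor
  · intro hx
    have h1 := Groth.Agent.CalgB.MilFlat.ker_le_of_isPushout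
      (Groth.Agent.CalgB.MilFlat.isPushout_of_isPullback T.hom J (inc J T) (red J T).hom
        (IsPullback.of_hasPullback _ _) U hU) (Groth.Agent.CalgB.MilFlat.appTop_surj J)
    have h2 := h1 (show x ∈ RingHom.ker ((inc J T).app U).hom from hx)
    refine (Ideal.map_le_iff_le_comap.2 ?_) h2
    intro s hs
    have h3 := Groth.Agent.CalgB.MilFlat.mem_of_appTop J s hs
    have h4 : (T.hom.appLE ⊤ U le_top).hom s =
        cst T U ((Scheme.ΓSpecIso (CommRingCat.of A)).hom.hom s) := by
      change _ = (T.hom.appLE ⊤ U le_top).hom ((Scheme.ΓSpecIso (CommRingCat.of A)).inv.hom _)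
      rw [← CommRingCat.comp_apply (Scheme.ΓSpecIso (CommRingCat.of A)).hom]
      rw [Iso.hom_inv_id]
      rfl
    rw [Ideal.mem_comap, h4]
    exact Ideal.mem_map_of_mem _ h3
  · intro hx
    refine Submodule.span_induction (p := fun y _ => (inc J T).app U y = 0) ?_ ?_ ?_ ?_ hx
    · rintro _ ⟨a, ha, rfl⟩
      exact inc_cst J T U ha
    · exact map_zero _
    · intro y z _ _ hy hz
      rw [map_add, hy, hz, add_zero]
    · intro b y _ hy
      rw [smul_eq_mul, map_mul, hy, mul_zero]

/-- The data: an ideal `M` which is the annihilator of `t ∈ M`. -/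
structure Dat (A : Type u) [CommRing A] where
  M : Ideal A
  t : A
  mem : t ∈ M
  ann : ∀ a, a ∈ M ↔ t * a = 0

namespace Dat

variable (D : Dat A)

/-- The ideal generated by `t`. -/
def I : Ideal A := Ideal.span {D.t}

theorem I_le : D.I ≤ D.M := (Ideal.span_singleton_le_iff_mem _).2 D.mem

/-- Over a flat algebra the annihilator of `t` is generated by `M`. -/
theorem mem_map_iff {C : Type u} [CommRing C] (f : A →+* C) (hf : f.Flat) (x : C) :
    x ∈ D.M.map f ↔ f D.t * x = 0 := by
  constructor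
  · intro hx
    refine Submodule.span_induction (p := fun y _ => f D.t * y = 0) ?_ ?_ ?_ ?_ hx
    · rintro _ ⟨a, ha, rfl⟩
      rw [← map_mul, (D.ann a).1 ha, map_zero]
    · exact mul_zero _
    · intro y z _ _ hy hz
      rw [mul_add, hy, hz, add_zero]
    · intro b y _ hy
      rw [smul_eq_mul, mul_left_comm, hy, mul_zero]
  · intro hx
    let _ : Algebra A C := f.toAlgebra
    have : Module.Flat A C := hf
    obtain ⟨k, a, y, h1, h2⟩ := Module.Flat.isTrivialRelation_of_sum_smul_eq_zero (R := A) (M := C)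
      (ι := Unit) (f := fun _ => D.t) (x := fun _ => x) (by
        simpa [Algebra.smul_def] using! hx)
    have h3 : x = ∑ j, a () j • y j := h1 ()
    rw [h3]
    refine Ideal.sum_mem _ fun j _ => ?_
    have h4 : a () j ∈ D.M := by
      rw [D.ann]
      simpa using h2 j
    rw [Algebra.smul_def]
    exact Ideal.mul_mem_right _ _ (Ideal.mem_map_of_mem _ h4)

theorem tred (T : Over (Spec (CommRingCat.of A))) [Flat T.hom] :
    TRed (inc D.M T) (cst T ⊤ D.t) where
  cl := inferInstance
  sq := by rw [← map_mul, (D.ann _).1 D.mem, map_zero]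
  ker U hU a := by
    rw [resO_cst, inc_app_eq_zero_iff D.M T hU, D.mem_map_iff _ (flat_cst T hU)]

theorem isTgt (X : Over (Spec (CommRingCat.of A))) :
    IsTgt (cl D.M) (inc D.M X) X.hom (red D.M X).hom where
  w := inc_w _ _
  aff := inferInstance
  clS := inferInstance
  clX := inferInstance
  gen V hV a ha := by
    rw [inc_app_eq_zero_iff D.M X hV] at ha
    refine Ideal.span_mono ?_ ha
    rintro _ ⟨c, hc, rfl⟩
    refine ⟨(Scheme.ΓSpecIso (CommRingCat.of A)).inv.hom c, ?_, rfl⟩
    have h1 := Scheme.ΓSpecIso_inv_naturality (CommRingCat.ofHom (Ideal.Quotient.mk D.M))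
    have h2 := congrArg (fun m => m.hom c) h1
    refine h2.symm.trans ?_
    change (Scheme.ΓSpecIso (CommRingCat.of (A ⧸ D.M))).inv.hom (Ideal.Quotient.mk D.M c) = 0
    rw [Ideal.Quotient.eq_zero_iff_mem.2 hc, map_zero]

end Dat

end K384.Setup
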