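import Groth.Agent.Lift.K696.LHom
import Groth.Agent.Lift.K696.Base

/-!
# Multiplication by `t` as a map from the reduction

`TRed i t` : `i : Z ⟶ W` a closed immersion such that over affine opens the kernel of the restriction to
`Z` is the annihilator of `t ∈ Γ(W, ⊤)`.  `tau : Γ(Z, i ⁻¹ U) →+ Γ(W, U)` is the map induced by
multiplication by `t`.
-/

set_option autoImplicit false
universe u

open CategoryTheory CategoryTheory.Limits AlgebraicGeometry Opposite TopologicalSpace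
open Groth.Agent.Sga67.Sec (resO resO_resO resO_self eqO_of_locally)
open K696.Base

namespace K384.Tau

variable {Z W : Scheme.{u}}

/-- Over affine opens the kernel of `i` is the annihilator of `t`. -/
structure TRed (i : Z ⟶ W) (t : Γ(W, ⊤)) : Prop where
  cl : IsClosedImmersion i
  sq : t * t = 0
  ker : ∀ U : W.Opens, IsAffineOpen U → ∀ a : Γ(W, U), i.app U a = 0 ↔ resO W le_top t * a = 0

/-- every point of an open has an affine open neighbourhood inside it -/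
theorem exists_affine {X : Scheme.{u}} {U : X.Opens} {x : X} (hx : x ∈ U) :
    ∃ V : X.Opens, IsAffineOpen V ∧ x ∈ V ∧ V ≤ U := by
  obtain ⟨_, ⟨V, hV, rfl⟩, hx, h⟩ := X.isBasis_affineOpens.exists_subset_of_mem_open hx U.2
  exact ⟨V, hV, hx, h⟩

/-- functions agreeing on affine opens agree -/
theorem ext_affine {X : Scheme.{u}} {U : X.Opens} {a b : Γ(X, U)}
    (h : ∀ V (hV : V ≤ U), IsAffineOpen V → resO X hV a = resO X hV b) : a = b := by
  refine eqO_of_locally fun x hx => ?_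
  obtain ⟨V, h1, h2, h3⟩ := exists_affine hx
  exact ⟨V, h3, h2, h V h3 h1⟩

theorem app_resO (f : Z ⟶ W) {U V : W.Opens} (h : V ≤ U) (a : Γ(W, U)) :
    f.app V (resO W h a) = resO Z (f.preimage_mono h) (f.app U a) := by
  rw [← ev_eq_app f _ le_rfl, ← ev_eq_app f _ le_rfl, ev_res f (f.preimage_mono h) h, res_ev]

namespace TRed

variable {i : Z ⟶ W} {t : Γ(W, ⊤)} (H : TRed i t)

include H

theorem surj {U : W.Opens} (hU : IsAffineOpen U) (b : Γ(Z, i ⁻¹ᵁ U)) : ∃ a : Γ(W, U), i.app U a = b := by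
  have := H.cl
  exact Scheme.Hom.app_surjective i U hU b

theorem t_mul_congr {U : W.Opens} (hU : IsAffineOpen U) {a b : Γ(W, U)} (h : i.app U a = i.app U b) :
    resO W le_top t * a = resO W le_top t * b := by
  have h1 : i.app U (a - b) = 0 := by rw [map_sub, h, sub_self]
  have h2 := (H.ker U hU _).1 h1
  rw [mul_sub] at h2
  exact sub_eq_zero.1 h2

omit H in
/-- functions on `Z` agreeing on preimages of affine opens agree -/
theorem ext_pre {U : W.Opens} {a b : Γ(Z, i ⁻¹ᵁ U)}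
    (h : ∀ V (hV : V ≤ U), IsAffineOpen V →
      resO Z (i.preimage_mono hV) a = resO Z (i.preimage_mono hV) b) : a = b := by
  refine eqO_of_locally fun x hx => ?_
  obtain ⟨V, h1, h2, h3⟩ := exists_affine (show i x ∈ U from hx)
  exact ⟨i ⁻¹ᵁ V, i.preimage_mono h3, h2, h V h3 h1⟩

theorem exists_tau (U : W.Opens) (b : Γ(Z, i ⁻¹ᵁ U)) :
    ∃ c : Γ(W, U), ∀ (V : W.Opens) (hV : V ≤ U), IsAffineOpen V → ∀ a : Γ(W, V),
      i.app V a = resO Z (i.preimage_mono hV) b → resO W hV c = resO W le_top t * a := by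
  choose s hs using fun V : {V : W.Opens // IsAffineOpen V ∧ V ≤ U} =>
    H.surj V.2.1 (resO Z (i.preimage_mono V.2.2) b)
  obtain ⟨c, hc⟩ := K696.LHom.exists_glue_fn (X := W) (W := U)
    (fun V : {V : W.Opens // IsAffineOpen V ∧ V ≤ U} => V.1) (fun V => V.2.2)
    (fun x hx => by
      obtain ⟨V, h1, h2, h3⟩ := exists_affine hx
      exact ⟨⟨V, h1, h3⟩, h2⟩)
    (fun V => resO W le_top t * s V) (by
      intro V V' x hx hx'
      obtain ⟨V'', h1, h2, h3⟩ := exists_affine (U := V.1 ⊓ V'.1) ⟨hx, hx'⟩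
      refine ⟨V'', h3.trans inf_le_left, h3.trans inf_le_right, h2, ?_⟩
      rw [map_mul, map_mul, resO_resO, resO_resO]
      apply H.t_mul_congr h1
      rw [app_resO, app_resO, hs, hs, resO_resO, resO_resO])
  refine ⟨c, fun V hV hVa a ha => ?_⟩
  rw [hc ⟨V, hVa, hV⟩]
  apply H.t_mul_congr hVa
  exact (hs ⟨V, hVa, hV⟩).trans ha.symm

/-- Multiplication by `t`, as a map from functions on `Z`. -/
noncomputable def tau (U : W.Opens) : Γ(Z, i ⁻¹ᵁ U) →+ Γ(W, U) :=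
  AddMonoidHom.mk' (fun b => (H.exists_tau U b).choose) fun b b' => by
    refine ext_affine fun V hV hVa => ?_
    obtain ⟨a, ha⟩ := H.surj hVa (resO Z (i.preimage_mono hV) b)
    obtain ⟨a', ha'⟩ := H.surj hVa (resO Z (i.preimage_mono hV) b')
    rw [map_add, (H.exists_tau U b).choose_spec V hV hVa a ha,
      (H.exists_tau U b').choose_spec V hV hVa a' ha',
      (H.exists_tau U (b + b')).choose_spec V hV hVa (a + a') (by rw [map_add, map_add, ha, ha']),
      mul_add]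

theorem resO_tau_of {U : W.Opens} (b : Γ(Z, i ⁻¹ᵁ U)) {V : W.Opens} (hV : V ≤ U)
    (hVa : IsAffineOpen V) {a : Γ(W, V)} (ha : i.app V a = resO Z (i.preimage_mono hV) b) :
    resO W hV (H.tau U b) = resO W le_top t * a :=
  (H.exists_tau U b).choose_spec V hV hVa a ha

theorem resO_tau {U V : W.Opens} (hV : V ≤ U) (b : Γ(Z, i ⁻¹ᵁ U)) :
    resO W hV (H.tau U b) = H.tau V (resO Z (i.preimage_mono hV) b) := by
  refine ext_affine fun O hO hOa => ?_
  obtain ⟨a, ha⟩ := H.surj hOa (resO Z (i.preimage_mono (hO.trans hV)) b)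
  rw [resO_resO, H.resO_tau_of b (hO.trans hV) hOa ha,
    H.resO_tau_of _ hO hOa (a := a) (by rw [ha, resO_resO])]

/-- `tau` of a function extending to `W`. -/
theorem tau_app {U : W.Opens} (a : Γ(W, U)) : H.tau U (i.app U a) = resO W le_top t * a := by
  refine ext_affine fun O hO hOa => ?_
  rw [H.resO_tau_of (i.app U a) hO hOa (a := resO W hO a) (app_resO i hO a), map_mul, resO_resO]

theorem tau_mul {U : W.Opens} (a : Γ(W, U)) (b : Γ(Z, i ⁻¹ᵁ U)) :
    H.tau U (i.app U a * b) = a * H.tau U b := by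
  refine ext_affine fun O hO hOa => ?_
  obtain ⟨c, hc⟩ := H.surj hOa (resO Z (i.preimage_mono hO) b)
  rw [H.resO_tau_of (i.app U a * b) hO hOa (a := resO W hO a * c)
    (by rw [map_mul, map_mul, hc, app_resO]), map_mul, H.resO_tau_of b hO hOa hc]
  ring

theorem tau_eq_zero {U : W.Opens} {b : Γ(Z, i ⁻¹ᵁ U)} (h : H.tau U b = 0) : b = 0 := by
  refine ext_pre fun V hV hVa => ?_
  obtain ⟨a, ha⟩ := H.surj hVa (resO Z (i.preimage_mono hV) b)
  have h1 := H.resO_tau_of b hV hVa ha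
  rw [h, map_zero] at h1
  rw [← ha, (H.ker V hVa a).2 h1.symm, map_zero]

theorem tau_injective (U : W.Opens) : Function.Injective (H.tau U) :=
  (injective_iff_map_eq_zero _).2 fun _ h => H.tau_eq_zero h

theorem i_t {U : W.Opens} : i.app U (resO W le_top t) = 0 := by
  refine ext_pre fun V hV hVa => ?_
  rw [← app_resO i hV, resO_resO, map_zero, H.ker V hVa, ← map_mul, H.sq, map_zero]

theorem i_tau {U : W.Opens} (b : Γ(Z, i ⁻¹ᵁ U)) : i.app U (H.tau U b) = 0 := by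
  refine ext_pre fun V hV hVa => ?_
  obtain ⟨a, ha⟩ := H.surj hVa (resO Z (i.preimage_mono hV) b)
  rw [← app_resO i hV, H.resO_tau_of b hV hVa ha, map_mul, H.i_t, zero_mul, map_zero]

theorem tau_mul_tau {U : W.Opens} (b b' : Γ(Z, i ⁻¹ᵁ U)) : H.tau U b * H.tau U b' = 0 := by
  rw [← H.tau_mul, H.i_tau, zero_mul, map_zero]

/-- Functions which are locally multiples of `t` are in the image of `tau`. -/
theorem exists_eq_tau {U : W.Opens} (c : Γ(W, U))
    (hc : ∀ (V : W.Opens) (hV : V ≤ U), IsAffineOpen V → ∃ a : Γ(W, V), resO W hV c = resO W le_top t * a) :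
    ∃ b : Γ(Z, i ⁻¹ᵁ U), H.tau U b = c := by
  choose s hs using fun V : {V : W.Opens // IsAffineOpen V ∧ V ≤ U} => hc V.1 V.2.2 V.2.1
  obtain ⟨b, hb⟩ := K696.LHom.exists_glue_fn (X := Z) (W := i ⁻¹ᵁ U)
    (fun V : {V : W.Opens // IsAffineOpen V ∧ V ≤ U} => i ⁻¹ᵁ V.1) (fun V => i.preimage_mono V.2.2)
    (fun x hx => by
      obtain ⟨V, h1, h2, h3⟩ := exists_affine (show i x ∈ U from hx)
      exact ⟨⟨V, h1, h3⟩, h2⟩)
    (fun V => i.app V.1 (s V)) (by
      intro V V' x hx hx'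
      obtain ⟨V'', h1, h2, h3⟩ := exists_affine (U := V.1 ⊓ V'.1) (show i x ∈ V.1 ⊓ V'.1 from ⟨hx, hx'⟩)
      refine ⟨i ⁻¹ᵁ V'', i.preimage_mono (h3.trans inf_le_left), i.preimage_mono (h3.trans inf_le_right),
        h2, ?_⟩
      have h4 : resO W le_top t * (resO W (h3.trans inf_le_left) (s V) -
          resO W (h3.trans inf_le_right) (s V')) = 0 := by
        have e1 := congrArg (resO W (h3.trans inf_le_left)) (hs V)
        have e2 := congrArg (resO W (h3.trans inf_le_right)) (hs V')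
        rw [resO_resO, map_mul, resO_resO] at e1 e2
        rw [mul_sub, ← e1, ← e2, sub_self]
      have h5 := (H.ker V'' h1 _).2 h4
      rw [map_sub, sub_eq_zero] at h5
      rw [← app_resO, ← app_resO]
      exact h5)
  refine ⟨b, ext_affine fun V hV hVa => ?_⟩
  rw [H.resO_tau_of b hV hVa (a := s ⟨V, hVa, hV⟩) (hb ⟨V, hVa, hV⟩).symm, hs ⟨V, hVa, hV⟩]

end TRed

/-- Naturality of `tau`. -/
theorem ev_tau {Z' W' : Scheme.{u}} {i : Z ⟶ W} {t : Γ(W, ⊤)} (H : TRed i t) {i' : Z' ⟶ W'}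
    {t' : Γ(W', ⊤)} (H' : TRed i' t') (r : W' ⟶ W) (rb : Z' ⟶ Z) (w : i' ≫ r = rb ≫ i)
    (ht : r.appTop t = t') {U : W.Opens} {U' : W'.Opens} (h : U' ≤ r ⁻¹ᵁ U)
    (h' : i' ⁻¹ᵁ U' ≤ rb ⁻¹ᵁ (i ⁻¹ᵁ U)) (b : Γ(Z, i ⁻¹ᵁ U)) :
    ev r h (H.tau U b) = H'.tau U' (ev rb h' b) := by
  have key : ∀ (V : W.Opens) (hV : V ≤ U) (_ : IsAffineOpen V) (O : W'.Opens) (hO : O ≤ U')
      (_ : IsAffineOpen O) (hOV : O ≤ r ⁻¹ᵁ V),
      resO W' hO (ev r h (H.tau U b)) = resO W' hO (H'.tau U' (ev rb h' b)) := by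
    intro V hV hVa O hO hOa hOV
    obtain ⟨a, ha⟩ := H.surj hVa (resO Z (i.preimage_mono hV) b)
    have h1 : i'⁻¹ᵁ O ≤ rb ⁻¹ᵁ (i ⁻¹ᵁ V) := by
      rw [← Scheme.Hom.comp_preimage, ← w, Scheme.Hom.comp_preimage]
      exact i'.preimage_mono hOV
    rw [res_ev, ← ev_res r (hOV.trans (r.preimage_mono hV)) hV hOV, H.resO_tau_of b hV hVa ha, map_mul,
      H'.resO_tau_of (ev rb h' b) hO hOa (a := ev r hOV a)]
    · congr 1
      rw [ev_res r (show O ≤ r ⁻¹ᵁ ⊤ from le_top) le_top hOV, ← ht, ev_eq]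
      rfl
    · have e1 : i' ⁻¹ᵁ O ≤ (i' ≫ r) ⁻¹ᵁ V := i'.preimage_mono hOV
      have e2 : i' ⁻¹ᵁ O ≤ (rb ≫ i) ⁻¹ᵁ V := by rw [← w]; exact e1
      rw [← ev_eq_app i' _ le_rfl, ev_comp i' r hOV le_rfl e1, ev_congr w e1 e2,
        ← ev_comp rb i le_rfl h1, ev_eq_app, ha, res_ev, ev_res]
  refine eqO_of_locally fun x hx => ?_
  obtain ⟨V, h1, h2, h3⟩ := exists_affine (show r x ∈ U from h hx)
  obtain ⟨O, h4, h5, h6⟩ := exists_affine (U := U' ⊓ r ⁻¹ᵁ V) (show x ∈ U' ⊓ r ⁻¹ᵁ V from ⟨hx, h2⟩)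
  exact ⟨O, h6.trans inf_le_left, h5, key V h3 h1 O (h6.trans inf_le_left) h4 (h6.trans inf_le_right)⟩

end K384.Tau
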