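import Groth.Agent.GIT.K384.Calc
import Mathlib.AlgebraicGeometry.Morphisms.Flat
import Mathlib.CategoryTheory.Monoidal.Cartesian.Over

/-!
# Functions on the reduction of a product
-/

set_option autoImplicit false
universe u

open CategoryTheory CategoryTheory.Limits MonoidalCategory CartesianMonoidalCategory
open AlgebraicGeometry Opposite TopologicalSpace
open Groth.Agent.Sga67.Sec (resO resO_resO resO_self eqO_of_locally)
open K696.Base K384.Tau K384.Dif K384.Rel K384.Setup K384.Calc
open scoped TensorProduct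

namespace K384.TensB

theorem bijective_of_isPushout {A B C T : Type u} [CommRing A] [CommRing B] [CommRing C] [CommRing T]
    [Algebra A B] [Algebra A C] [Algebra A T] (i₁ : B →ₐ[A] T) (i₂ : C →ₐ[A] T)
    (h : IsPushout (CommRingCat.ofHom (algebraMap A B)) (CommRingCat.ofHom (algebraMap A C))
      (CommRingCat.ofHom i₁.toRingHom) (CommRingCat.ofHom i₂.toRingHom)) :
    Function.Bijective (Algebra.TensorProduct.productMap i₁ i₂) := by
  have h2 := CommRingCat.isPushout_tensorProduct A B C
  let e := h2.isoIsPushout _ _ h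
  have he : (Algebra.TensorProduct.productMap i₁ i₂ : TensorProduct A B C →ₐ[A] T).toRingHom = e.hom.hom := by
    have : CommRingCat.ofHom (Algebra.TensorProduct.productMap i₁ i₂ : TensorProduct A B C →ₐ[A] T).toRingHom
        = e.hom := by
      apply h2.hom_ext
      · rw [h2.inl_isoIsPushout_hom]
        ext b
        change Algebra.TensorProduct.productMap i₁ i₂ (b ⊗ₜ 1) = i₁ b
        simp
      · rw [h2.inr_isoIsPushout_hom]
        ext b
        change Algebra.TensorProduct.productMap i₁ i₂ (1 ⊗ₜ b) = i₂ b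
        simp
    rw [← this]
    rfl
  have hb : Function.Bijective e.hom.hom := ConcreteCategory.bijective_of_isIso e.hom
  rw [← he] at hb
  exact hb

variable {A : Type u} [CommRing A] (D : Dat A)

/-- The structure of an algebra over `A/M`. -/
noncomputable instance algB (T : Over (Spec (CommRingCat.of A))) : Algebra (A ⧸ D.M) (B D T) :=
  ((red D.M T).hom.appTop.hom.comp (Scheme.ΓSpecIso (CommRingCat.of (A ⧸ D.M))).inv.hom).toAlgebra

theorem algebraMap_B (T : Over (Spec (CommRingCat.of A))) (c : A ⧸ D.M) :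
    algebraMap (A ⧸ D.M) (B D T) c =
      (red D.M T).hom.appTop ((Scheme.ΓSpecIso (CommRingCat.of (A ⧸ D.M))).inv c) := rfl

/-- `Bm` as an algebra map. -/
noncomputable def BmA {T T' : Over (Spec (CommRingCat.of A))} (r : T' ⟶ T) :
    B D T →ₐ[A ⧸ D.M] B D T' :=
  { Bm D r with
    commutes' := fun c => by
      change (rmap D.M r).left.appTop ((red D.M T).hom.appTop _) = (red D.M T').hom.appTop _
      have h1 : (rmap D.M r).left ≫ (red D.M T).hom = (red D.M T').hom := Over.w _
      rw [← h1]
      rfl }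

theorem BmA_apply {T T' : Over (Spec (CommRingCat.of A))} (r : T' ⟶ T) (b : B D T) :
    BmA D r b = Bm D r b := rfl

/-- The multiplication map. -/
noncomputable def mu (U V : Over (Spec (CommRingCat.of A))) :
    B D U ⊗[A ⧸ D.M] B D V →ₐ[A ⧸ D.M] B D (U ⊗ V) :=
  Algebra.TensorProduct.productMap (BmA D (fst U V)) (BmA D (snd U V))

theorem mu_tmul (U V : Over (Spec (CommRingCat.of A))) (x : B D U) (y : B D V) :
    mu D U V (x ⊗ₜ y) = Bm D (fst U V) x * Bm D (snd U V) y :=
  Algebra.TensorProduct.productMap_apply_tmul _ _ _ _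

theorem isPullback_map_left (J : Ideal A) {X Y : Over (Spec (CommRingCat.of A))} (i : X ⟶ Y) :
    IsPullback (rmap J i).left (inc J X) (inc J Y) i.left := by
  refine IsPullback.of_right (h₁₂ := (red J Y).hom) (h₂₂ := Y.hom) (v₁₃ := cl J) ?_ (rmap_inc J i)
    (IsPullback.of_hasPullback Y.hom (cl J)).flip
  rw [rmap_hom, Over.w]
  exact (IsPullback.of_hasPullback X.hom (cl J)).flip

theorem isPullback_prod (J : Ideal A) (U V : Over (Spec (CommRingCat.of A))) :
    IsPullback (rmap J (fst U V)).left (rmap J (snd U V)).left (red J U).hom (red J V).hom := by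
  have h1 : IsPullback (fst U V).left (snd U V).left U.hom V.hom :=
    IsPullback.of_hasPullback U.hom V.hom
  have h2 : IsPullback (rmap J (fst U V)).left (inc J (U ⊗ V) ≫ (snd U V).left)
      (inc J U ≫ U.hom) V.hom := (isPullback_map_left J (fst U V)).paste_vert h1
  have h3 : IsPullback (red J V).hom (inc J V) (cl J) V.hom :=
    (IsPullback.of_hasPullback V.hom (cl J)).flip
  rw [inc_w, ← rmap_inc] at h2
  exact IsPullback.of_bot h2 ((rmap_hom J _).trans (rmap_hom J _).symm) h3

/-- Over a field any ring homomorphism is flat. -/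
theorem flat_of_isMaximal (hM : D.M.IsMaximal) {R : Type u} [CommRing R]
    (f : Γ(Spec (CommRingCat.of (A ⧸ D.M)), ⊤) →+* R) : f.Flat := by
  let _ : Field (A ⧸ D.M) := Ideal.Quotient.field D.M
  let e := (Scheme.ΓSpecIso (CommRingCat.of (A ⧸ D.M)))
  have h1 : (f.comp e.inv.hom).Flat := by
    let _ : Algebra (A ⧸ D.M) R := (f.comp e.inv.hom).toAlgebra
    change Module.Flat (A ⧸ D.M) R
    infer_instance
  have h2 : e.hom.hom.Flat := RingHom.Flat.of_bijective (ConcreteCategory.bijective_of_isIso e.hom)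
  have h3 : (f.comp e.inv.hom).comp e.hom.hom = f := by
    rw [RingHom.comp_assoc, ← CommRingCat.hom_comp, Iso.hom_inv_id]
    rfl
  rw [← h3]
  exact RingHom.Flat.comp h2 h1

instance flat_red (J : Ideal A) (V : Over (Spec (CommRingCat.of A))) [Flat V.hom] : Flat (red J V).hom :=
  inferInstanceAs (Flat (pullback.snd V.hom (cl J)))

instance qc_red (J : Ideal A) (V : Over (Spec (CommRingCat.of A))) [QuasiCompact V.hom] :
    QuasiCompact (red J V).hom :=
  inferInstanceAs (QuasiCompact (pullback.snd V.hom (cl J)))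

instance qs_red (J : Ideal A) (V : Over (Spec (CommRingCat.of A))) [QuasiSeparated V.hom] :
    QuasiSeparated (red J V).hom :=
  inferInstanceAs (QuasiSeparated (pullback.snd V.hom (cl J)))

theorem isPushout_B (hM : D.M.IsMaximal) (U V : Over (Spec (CommRingCat.of A))) [QuasiCompact U.hom]
    [QuasiSeparated U.hom] [QuasiCompact V.hom] [QuasiSeparated V.hom] [Flat V.hom] :
    IsPushout (CommRingCat.ofHom (algebraMap (A ⧸ D.M) (B D U)))
      (CommRingCat.ofHom (algebraMap (A ⧸ D.M) (B D V)))
      (CommRingCat.ofHom (BmA D (fst U V)).toRingHom) (CommRingCat.ofHom (BmA D (snd U V)).toRingHom) := by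
  have H := isPullback_prod D.M U V
  have cU : CompactSpace (red D.M U).left := QuasiCompact.compactSpace_of_compactSpace (red D.M U).hom
  have cV : CompactSpace (red D.M V).left := QuasiCompact.compactSpace_of_compactSpace (red D.M V).hom
  have sU : QuasiSeparatedSpace (red D.M U).left := quasiSeparatedSpace_of_quasiSeparated (red D.M U).hom
  have sV : QuasiSeparatedSpace (red D.M V).left := quasiSeparatedSpace_of_quasiSeparated (red D.M V).hom
  have h1 : (⊤ : (red D.M (U ⊗ V)).left.Opens) =
      (rmap D.M (fst U V)).left ⁻¹ᵁ ⊤ ⊓ (rmap D.M (snd U V)).left ⁻¹ᵁ ⊤ := by simp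
  have h2 := (isIso_pushoutSection_iff H
    (show (⊤ : (red D.M V).left.Opens) ≤ (red D.M V).hom ⁻¹ᵁ ⊤ from le_rfl)
    (show (⊤ : (red D.M U).left.Opens) ≤ (red D.M U).hom ⁻¹ᵁ ⊤ from le_rfl) h1).mp
    (isIso_pushoutSection_of_isCompact_of_flat_right_of_ringHomFlat H _ _ h1 (isAffineOpen_top _)
      isCompact_univ (isQuasiSeparated_univ_iff.2 sV) isCompact_univ (isQuasiSeparated_univ_iff.2 sU)
      (flat_of_isMaximal D hM _))
  have e1 : ∀ {P Q : Scheme.{u}} (f : P ⟶ Q) (h : (⊤ : P.Opens) ≤ f ⁻¹ᵁ ⊤), f.appLE ⊤ ⊤ h = f.appTop :=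
    fun f h => (Scheme.Hom.app_eq_appLE f).symm
  have e2 : ∀ T : Over (Spec (CommRingCat.of A)), (red D.M T).hom.appTop ≫ 𝟙 _ =
      (Scheme.ΓSpecIso (CommRingCat.of (A ⧸ D.M))).hom ≫
        CommRingCat.ofHom (algebraMap (A ⧸ D.M) (B D T)) := by
    intro T
    have : CommRingCat.ofHom (algebraMap (A ⧸ D.M) (B D T)) =
      (Scheme.ΓSpecIso (CommRingCat.of (A ⧸ D.M))).inv ≫ (red D.M T).hom.appTop := rfl
    rw [this, Iso.hom_inv_id_assoc, Category.comp_id]
  refine h2.of_iso (Scheme.ΓSpecIso (CommRingCat.of (A ⧸ D.M))) (Iso.refl _) (Iso.refl _) (Iso.refl _)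
    ?_ ?_ ?_ ?_
  · rw [e1]; exact e2 U
  · rw [e1]; exact e2 V
  · rw [e1]; exact (Category.comp_id _).trans (Category.id_comp _).symm
  · rw [e1]; exact (Category.comp_id _).trans (Category.id_comp _).symm

/-- Functions on the reduction of a product. -/
theorem bijective_mu (hM : D.M.IsMaximal) (U V : Over (Spec (CommRingCat.of A))) [QuasiCompact U.hom]
    [QuasiSeparated U.hom] [QuasiCompact V.hom] [QuasiSeparated V.hom] [Flat V.hom] :
    Function.Bijective (mu D U V) :=
  bijective_of_isPushout _ _ (isPushout_B D hM U V)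

end K384.TensB
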